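import Mathlib
import Groth.Prelude.Def_ModelsG
import Groth.Agent.H26.HorizDeg
import Groth.Agent.H26.SmoothMinimal
import Groth.Agent.RelPC17.TruncFree
import Groth.Agent.H23.FFDescent
import Groth.Agent.DescLib.SubtrVal
import Groth.Agent.SchTop.Closed
import Groth.Agent.SurfSeq.Main

/-!
# Regular proper models as birational surfaces
-/

set_option autoImplicit false
set_option linter.style.haveILetI false
set_option linter.unusedSectionVars false
set_option backward.isDefEq.respectTransparency false
set_option backward.isDefEq.respectTransparency.types false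
set_option maxHeartbeats 400000

universe u

open CategoryTheory CategoryTheory.Limits AlgebraicGeometry TopologicalSpace

noncomputable section

namespace Groth.Agent.MinModel

variable (R : Type u) [CommRing R] [IsDomain R] [IsDiscreteValuationRing R]

/-- The inclusion of the generic point. -/
abbrev jη : Spec (CommRingCat.of (FractionRing R)) ⟶ Spec (CommRingCat.of R) :=
  Spec.map (CommRingCat.ofHom (algebraMap R (FractionRing R)))

theorem isOpenImmersion_jη : IsOpenImmersion (jη R) := by
  obtain ⟨ϖ, hϖ⟩ := IsDiscreteValuationRing.exists_irreducible R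
  haveI := RelPC17.TruncFree.isAway_fractionRing (R := R) hϖ
  exact IsOpenImmersion.of_isLocalization ϖ

theorem range_jη : Set.range (jη R) = {genericPoint (Spec (CommRingCat.of R))} := by
  obtain ⟨a⟩ : Nonempty ↥(Spec (CommRingCat.of (FractionRing R))) := inferInstanceAs (Nonempty (PrimeSpectrum _))
  ext z
  exact ⟨fun ⟨b, hb⟩ => hb.symm.trans (H26.HorizDeg.range_specMap_fraction b),
    fun hz => ⟨a, (H26.HorizDeg.range_specMap_fraction a).trans hz.symm⟩⟩

variable {R}

/-- The data of a regular proper model with its generic fibre inclusion. -/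
structure Model (C : Scheme.{u}) (f : C ⟶ Spec (CommRingCat.of (FractionRing R))) where
  Z : Scheme.{u}
  p : Z ⟶ Spec (CommRingCat.of R)
  g : C ⟶ Z
  sq : IsPullback g f p (jη R)
  model : Models.IsRegularProperModel R Z p C f

variable {C : Scheme.{u}} {f : C ⟶ Spec (CommRingCat.of (FractionRing R))}

theorem Model.isProper (M : Model C f) : IsProper M.p := M.model.2.1
theorem Model.flat (M : Model C f) : Flat M.p := M.model.1.1
theorem Model.regular (M : Model C f) (z : M.Z) : IsRegularLocalRing (M.Z.presheaf.stalk z) := M.model.2.2 z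

theorem Model.isOpenImmersion (M : Model C f) : IsOpenImmersion M.g :=
  MorphismProperty.of_isPullback M.sq.flip (isOpenImmersion_jη R)

theorem Model.mem_range (M : Model C f) {z : M.Z} :
    z ∈ Set.range M.g ↔ M.p z = genericPoint (Spec (CommRingCat.of R)) := by
  constructor
  · rintro ⟨c, rfl⟩
    rw [← Scheme.Hom.comp_apply, M.sq.w, Scheme.Hom.comp_apply]
    exact H26.HorizDeg.range_specMap_fraction _
  · intro hz
    obtain ⟨a, ha⟩ := (range_jη R).ge hz
    obtain ⟨w, hw, -⟩ := Scheme.Pullback.exists_preimage_pullback z a ha.symm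
    refine ⟨M.sq.isoPullback.inv w, ?_⟩
    rw [← Scheme.Hom.comp_apply, IsPullback.isoPullback_inv_fst]
    exact hw

variable [IsIntegral C]

theorem Model.irreducible (M : Model C f) :
    IrreducibleSpace M.Z ∧ IsGenericPoint (M.g (genericPoint C)) (Set.univ : Set M.Z) := by
  haveI := M.flat
  haveI := M.isOpenImmersion
  have hgen : ∀ z : M.Z, M.g (genericPoint C) ⤳ z := fun z => by
    obtain ⟨w, hwz, hw⟩ := Flat.generalizingMap (f := M.p) (genericPoint_specializes (M.p z))
    obtain ⟨c, rfl⟩ := M.mem_range.2 hw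
    exact ((genericPoint_specializes c).map M.g.continuous).trans hwz
  have h : IsGenericPoint (M.g (genericPoint C)) (Set.univ : Set M.Z) :=
    isGenericPoint_iff_specializes.2 fun z => ⟨fun _ => trivial, fun _ => hgen z⟩
  have hirr : IsIrreducible (Set.univ : Set M.Z) := h.def ▸ isIrreducible_singleton.closure
  exact ⟨(irreducibleSpace_def M.Z).2 hirr, h⟩

theorem Model.isIntegral (M : Model C f) : IsIntegral M.Z := by
  haveI := M.irreducible.1
  exact H26.SmoothMinimal.isIntegral_of_regular M.regular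

theorem Model.genericPoint_eq (M : Model C f) [IsIntegral M.Z] : M.g (genericPoint C) = genericPoint M.Z :=
  M.irreducible.2.eq (genericPoint_spec M.Z)

theorem Model.isNoetherian (M : Model C f) : IsNoetherian M.Z := by
  haveI := M.isProper
  haveI : IsLocallyNoetherian M.Z := LocallyOfFiniteType.isLocallyNoetherian M.p
  haveI : CompactSpace M.Z := QuasiCompact.compactSpace_of_compactSpace M.p
  exact {}

theorem Model.dim_le [IsProper f] (hdim : topologicalKrullDim C = 1) (M : Model C f) (z : M.Z) :
    ringKrullDim (M.Z.presheaf.stalk z) ≤ 2 := by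
  haveI : IsIntegral (Over.mk M.p).left := M.isIntegral
  haveI : LocallyOfFiniteType (Over.mk M.p).hom := (M.model.1.2.1 : LocallyOfFiniteType M.p)
  haveI : Flat (Over.mk M.p).hom := M.flat
  haveI : IsLocallyNoetherian (Over.mk M.p).left := LocallyOfFiniteType.isLocallyNoetherian (Over.mk M.p).hom
  have h := H26.HorizDeg.codim_le_two (X := Over.mk M.p) f M.g M.sq hdim z
  rw [ringKrullDim_stalk_eq_coheight, show Order.coheight z = (DimFormula.codim (X := (Over.mk M.p).left) z : ℕ∞) from
    (DimFormula.coe_codim (X := (Over.mk M.p).left) z).symm]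
  exact WithBot.coe_le_coe.2 (by exact_mod_cast h : ((DimFormula.codim (X := (Over.mk M.p).left) z : ℕ) : ℕ∞) ≤ (2 : ℕ∞))

/-- A morphism of models is proper and birational. -/
theorem Model.proper_birational (M N : Model C f) [IsIntegral M.Z] [IsIntegral N.Z] (b : M.Z ⟶ N.Z)
    (hb : b ≫ N.p = M.p) (hg : M.g ≫ b = N.g) :
    IsProper b ∧ IsIso (b.stalkMap (genericPoint M.Z)) := by
  haveI := M.isProper
  haveI := N.isProper
  haveI := M.isOpenImmersion
  haveI := N.isOpenImmersion
  haveI : IsProper (b ≫ N.p) := by rw [hb]; infer_instance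
  refine ⟨IsProper.of_comp b N.p, ?_⟩
  have h1 : IsIso ((M.g ≫ b).stalkMap (genericPoint C)) := by
    rw [Scheme.Hom.stalkMap_congr_hom _ _ hg]; infer_instance
  rw [Scheme.Hom.stalkMap_comp] at h1
  have h2 := @IsIso.of_isIso_comp_right _ _ _ _ _ (b.stalkMap _) (M.g.stalkMap (genericPoint C)) inferInstance h1
  rwa [M.genericPoint_eq] at h2

/-- Morphisms of models are unique. -/
theorem Model.hom_ext (M N : Model C f) {b b' : M.Z ⟶ N.Z}
    (hb : b ≫ N.p = M.p) (hb' : b' ≫ N.p = M.p) (hg : M.g ≫ b = M.g ≫ b') : b = b' := by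
  haveI := M.isIntegral
  haveI := N.isProper
  haveI := M.isOpenImmersion
  haveI : IsDominant M.g := ⟨M.g.opensRange.isOpen.dense ⟨_, genericPoint C, rfl⟩⟩
  exact ext_of_isDominant_of_isSeparated N.p (hb.trans hb'.symm) M.g hg

/-- Blow-downs of a regular proper model are regular proper models. -/
theorem Model.exists_of_contraction (M : Model C f) {Z' : Scheme.{u}} [IsIntegral Z'] (c : M.Z ⟶ Z') [IsProper c]
    (p' : Z' ⟶ Spec (CommRingCat.of R)) (hp : c ≫ p' = M.p) [IsProper p']
    (hreg : ∀ z : Z', IsRegularLocalRing (Z'.presheaf.stalk z)) (y : Z') (hy : IsClosed ({y} : Set Z'))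
    (hoff : IsIso (c ∣_ (⟨{y}ᶜ, hy.isOpen_compl⟩ : Z'.Opens))) :
    ∃ _ : IsPullback (M.g ≫ c) f p' (jη R), Models.IsRegularProperModel R Z' p' C f := by
  haveI := M.isProper
  haveI := M.isOpenImmersion
  haveI := hoff
  haveI := M.isIntegral
  set V : Z'.Opens := ⟨{y}ᶜ, hy.isOpen_compl⟩
  have hys : p' y = IsLocalRing.closedPoint R := by
    have h := p'.isClosedMap _ hy
    rw [Set.image_singleton] at h
    exact (Set.mem_singleton_iff.1 ((IsLocalRing.specializes_closedPoint (p' y)).mem_closed h rfl)).symm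
  have hne : ∀ z : M.Z, M.p z = genericPoint (Spec (CommRingCat.of R)) → c z ∈ V := fun z hz h => by
    rw [← hp, Scheme.Hom.comp_apply, show c z = y from h, hys] at hz
    exact H26.HorizDeg.generic_ne_closed hz.symm
  have hr : Set.range M.g ⊆ Set.range (c ⁻¹ᵁ V).ι := by
    rw [Scheme.Opens.range_ι]
    rintro _ ⟨a, rfl⟩
    exact hne _ (M.mem_range.1 ⟨a, rfl⟩)
  haveI : IsOpenImmersion ((c ⁻¹ᵁ V).ι ≫ c) := by rw [← morphismRestrict_ι]; infer_instance
  haveI : IsOpenImmersion (IsOpenImmersion.lift (c ⁻¹ᵁ V).ι M.g hr ≫ (c ⁻¹ᵁ V).ι) := by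
    rw [IsOpenImmersion.lift_fac]; infer_instance
  haveI : IsOpenImmersion (IsOpenImmersion.lift (c ⁻¹ᵁ V).ι M.g hr) :=
    IsOpenImmersion.of_comp _ (c ⁻¹ᵁ V).ι
  haveI : IsOpenImmersion (M.g ≫ c) := by
    rw [← IsOpenImmersion.lift_fac (c ⁻¹ᵁ V).ι M.g hr, Category.assoc]
    infer_instance
  haveI := isOpenImmersion_jη R
  have hw : (M.g ≫ c) ≫ p' = f ≫ jη R := by rw [Category.assoc, hp]; exact M.sq.w
  have hsq : IsPullback (M.g ≫ c) f p' (jη R) := by
    refine (IsOpenImmersion.isPullback f (M.g ≫ c) (jη R) p' hw ?_).flip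
    refine Opens.ext (Set.ext fun w => ⟨fun hw' => ?_, ?_⟩)
    · have hw'' : p' w = genericPoint _ := (range_jη R).le hw'
      have hwy : w ∈ V := fun h => H26.HorizDeg.generic_ne_closed (hw''.symm.trans
        ((congrArg p' (show w = y from h)).trans hys))
      obtain ⟨⟨z, hz⟩, hzw⟩ := (c ∣_ V).surjective ⟨w, hwy⟩
      have hzw' : c z = w := (morphismRestrict_base_coe c V _).symm.trans (congrArg Subtype.val hzw)
      obtain ⟨a, ha⟩ := M.mem_range.2 (show M.p z = genericPoint _ by
        rw [← hp, Scheme.Hom.comp_apply, hzw', hw''])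
      exact ⟨a, by rw [Scheme.Hom.comp_apply, ha, hzw']⟩
    · rintro ⟨a, rfl⟩
      exact ⟨f a, by rw [← Scheme.Hom.comp_apply, ← hw, Scheme.Hom.comp_apply]⟩
  have hflat : Flat p' := by
    refine DescLib.flat_of_dominant_integral p' ?_
    have h1 : p' ((M.g ≫ c) (genericPoint C)) = genericPoint (Spec (CommRingCat.of R)) := by
      rw [← Scheme.Hom.comp_apply, hw, Scheme.Hom.comp_apply]
      exact H26.HorizDeg.range_specMap_fraction _
    have h2 : (M.g ≫ c) (genericPoint C) = genericPoint Z' := genericPoint_eq_of_isOpenImmersion (M.g ≫ c)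
    rw [← h2, h1, genericPoint_eq_bot_of_affine (CommRingCat.of R)]
    rfl
  exact ⟨hsq, ⟨hflat, inferInstance, inferInstance, _, hsq⟩, inferInstance, hreg⟩

end Groth.Agent.MinModel
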