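import Mathlib
import Groth.Agent.MinModel.Basic
import Groth.Agent.SurfSeq.ExcFibre
import Groth.Agent.SurfSeq.KerRange
import Groth.Agent.H26.CompList
import Groth.Agent.H26.ExcTransport
import Groth.Agent.H26.InterSymm
import Groth.Agent.H26.InterRange
import Groth.Agent.H26.InterDiv
import Groth.Agent.Lib.BlowUpInt
import Groth.Agent.Sol.Seq
import Groth.Agent.S3327

/-!
# Exceptional curves on models over a minimal model are contracted
-/

set_option autoImplicit false
set_option linter.style.haveILetI false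
set_option linter.unusedSectionVars false
set_option backward.isDefEq.respectTransparency false
set_option backward.isDefEq.respectTransparency.types false
set_option maxHeartbeats 600000

universe u

open CategoryTheory CategoryTheory.Limits AlgebraicGeometry TopologicalSpace IsLocalRing
open Groth.Agent.H23.StalkIdeal
open Groth.Agent.PointBlow (ker_stalkMap_closed sI_eq_top)

noncomputable section

namespace Groth.Agent.MinModel

variable {R : Type u} [CommRing R] [IsDomain R] [IsDiscreteValuationRing R]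

theorem exists_two_points (k : Type u) [Field k] {E : Scheme.{u}} (e : CohB1.ProjSpace 1 k ≅ E) :
    ∃ a b : E, a ≠ b ∧ a ⤳ b := by
  obtain ⟨p, q, hpq, hsp⟩ := Contraction7.exists_specializes_projLine k
  exact ⟨e.hom p, e.hom q, fun h => hpq (e.hom.homeomorph.injective h), hsp.map e.hom.continuous⟩

/-- A closed subscheme isomorphic to a line lying in the closed fibre is a vertical curve. -/
theorem exists_vertComp {X : Over (Spec (CommRingCat.of R))} {E : Scheme.{u}} (ι : E ⟶ X.left) [IsClosedImmersion ι]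
    [IsIntegral E] (k : Type u) [Field k] (e : CohB1.ProjSpace 1 k ≅ E)
    (h : ∀ a, X.hom (ι a) = closedPoint R) :
    ∃ Γ : ArSurf.VertComp R X, Set.range Γ.ι.base = Set.range ι ∧ ∃ e' : Γ.curve.left ≅ E, e'.hom ≫ ι = Γ.ι := by
  obtain ⟨g', hg'⟩ := H26.CompList.exists_fac (ι ≫ X.hom) fun a => by rw [Scheme.Hom.comp_apply]; exact h a
  refine ⟨⟨Over.mk g', ι, inferInstance, inferInstanceAs (IsIntegral E), ?_, hg'.symm⟩, rfl,
    Iso.refl _, Category.id_comp _⟩
  exact (IsHomeomorph.topologicalKrullDim_eq _ e.inv.homeomorph.isHomeomorph).trans (CurveCover.dim_line k)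

variable {C : Scheme.{u}} {f : C ⟶ Spec (CommRingCat.of (FractionRing R))} [IsIntegral C] [IsProper f]
  (hdim : topologicalKrullDim C = 1)
include hdim

theorem Model.dim_eq_two (M : Model C f) (Γ : ArSurf.VertComp R (Over.mk M.p)) : topologicalKrullDim M.Z = 2 := by
  haveI := M.isIntegral
  haveI : IsLocallyNoetherian M.Z := M.isNoetherian.toIsLocallyNoetherian
  have hle : ∀ z : M.Z, Order.coheight z ≤ 2 := fun z => by
    have h := M.dim_le hdim z
    rw [ringKrullDim_stalk_eq_coheight] at h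
    exact WithBot.coe_le_coe.1 h
  rw [topologicalKrullDim, Order.krullDim_eq_of_orderIso irreducibleSetEquivPoints]
  refine le_antisymm ?_ ?_
  · rw [Order.krullDim_eq_iSup_coheight_of_nonempty]
    exact WithBot.coe_le_coe.2 (iSup_le hle)
  obtain ⟨c, hc⟩ : ∃ c : Γ.curve.left, c ≠ genericPoint Γ.curve.left := by
    by_contra hall
    simp only [not_exists, not_not] at hall
    haveI : Subsingleton Γ.curve.left := ⟨fun a b => (hall a).trans (hall b).symm⟩
    have h0 : topologicalKrullDim Γ.curve.left ≤ 0 := topologicalKrullDim_zero_of_discreteTopology _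
    rw [Γ.dim_eq] at h0
    exact absurd h0 (by decide)
  let a : M.Z := Γ.ι (genericPoint Γ.curve.left)
  let b : M.Z := Γ.ι c
  have h1 : b < a := lt_iff_le_not_ge.2 ⟨(genericPoint_specializes c).map Γ.ι.continuous, fun h => hc
    (Γ.ι.isClosedEmbedding.injective (Specializes.antisymm h ((genericPoint_specializes c).map Γ.ι.continuous)).eq)⟩
  have h2 : a < genericPoint M.Z := by
    refine lt_iff_le_not_ge.2 ⟨genericPoint_specializes _, fun h => ?_⟩
    have hs : Models.specialFibreSet R (Over.mk M.p) = (fun z => M.p z) ⁻¹' {closedPoint R} := rfl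
    have ha : M.p a = closedPoint R := by
      show (Γ.ι ≫ (Over.mk M.p).hom) (genericPoint Γ.curve.left) = _
      rw [Γ.w, Scheme.Hom.comp_apply]
      generalize Γ.curve.hom (genericPoint Γ.curve.left) = w
      refine PrimeSpectrum.ext ?_
      show Ideal.comap (IsLocalRing.residue R) w.asIdeal = IsLocalRing.maximalIdeal R
      rw [(Ideal.eq_bot_or_top w.asIdeal).resolve_right w.isPrime.ne_top, ← RingHom.ker_eq_comap_bot,
        IsLocalRing.ker_residue]
    have hg : M.p (genericPoint M.Z) = genericPoint _ := M.mem_range.1 ⟨_, M.genericPoint_eq⟩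
    have hb : genericPoint M.Z = a :=
      ((genericPoint_specializes a).antisymm h).eq
    rw [hb, ha] at hg
    exact H26.HorizDeg.generic_ne_closed hg.symm
  exact Order.LTSeries.length_le_krullDim (((RelSeries.singleton _ b).snoc a h1).snoc (genericPoint M.Z) (by simpa using h2))

variable (C f) in
omit [IsIntegral C] [IsProper f] hdim in
/-- Exceptional curves on all regular proper models of the curve are pairwise disjoint. -/
def DisjointExc : Prop :=
  ∀ (M : Model C f) (Γ₁ Γ₂ : ArSurf.VertComp R (Over.mk M.p)), Models.IsExcCurve Γ₁.ι → Models.IsExcCurve Γ₂.ι →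
    Set.range Γ₁.ι.base ≠ Set.range Γ₂.ι.base → Disjoint (Set.range Γ₁.ι.base) (Set.range Γ₂.ι.base)

variable (hC : Curve.IsSmoothProperCurve (FractionRing R) C f) (hH0 : IsIso f.appTop)
  (hg : 0 < Models.curveGenus (FractionRing R) C f)
include hC hH0 hg

/-- In positive genus two exceptional curves are disjoint. -/
theorem Model.disjoint_exc (M : Model C f) (Γ₁ Γ₂ : ArSurf.VertComp R (Over.mk M.p))
    (h₁ : Models.IsExcCurve Γ₁.ι) (h₂ : Models.IsExcCurve Γ₂.ι)
    (hne : Set.range Γ₁.ι.base ≠ Set.range Γ₂.ι.base) :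
    Disjoint (Set.range Γ₁.ι.base) (Set.range Γ₂.ι.base) := by
  haveI : IsIntegral (Over.mk M.p).left := M.isIntegral
  haveI : IsProper (Over.mk M.p).hom := M.isProper
  haveI : Flat (Over.mk M.p).hom := M.flat
  obtain ⟨n, Γ, hΓ⟩ := H26.CompList.exists_componentList (X := Over.mk M.p) (M.dim_eq_two hdim Γ₁)
  obtain ⟨i, hi⟩ := H26.InterForm.exists_same_range hΓ Γ₁
  obtain ⟨j, hj⟩ := H26.InterForm.exists_same_range hΓ Γ₂
  by_contra hmeet
  have hij : i ≠ j := fun h => hne (hi.trans (h ▸ hj.symm))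
  have hg0 := (S3327.result R C M.Z f M.p hC hH0 M.model Γ hΓ i j hij
    (H26.ExcTransport.isExcCurve_of_range hi h₁) (H26.ExcTransport.isExcCurve_of_range hj h₂)
    (hi ▸ hj ▸ hmeet)).2.2.2.2
  omega

omit hC hH0 hg in
/-- An exceptional curve away from the centre of a modification stays exceptional. -/
theorem Model.transport (M N : Model C f) (c : M.Z ⟶ N.Z) [IsProper c] (hp : c ≫ N.p = M.p) (T : Set N.Z)
    (hT : IsClosed T) (hiso : IsIso (c ∣_ (⟨Tᶜ, hT.isOpen_compl⟩ : N.Z.Opens)))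
    (Γ : ArSurf.VertComp R (Over.mk M.p)) (hE : Models.IsExcCurve Γ.ι) (hΓ : ∀ a, c (Γ.ι a) ∉ T) :
    ∃ Γ' : ArSurf.VertComp R (Over.mk N.p), Models.IsExcCurve Γ'.ι ∧
      ∀ a : Γ.curve.left, c (Γ.ι a) ∈ Set.range Γ'.ι.base ∧ Set.range Γ'.ι.base ⊆ Set.range (Γ.ι ≫ c) := by
  haveI := M.isIntegral
  haveI := N.isIntegral
  haveI := hiso
  set V : N.Z.Opens := ⟨Tᶜ, hT.isOpen_compl⟩
  let κ : Γ.curve.left ⟶ N.Z := Γ.ι ≫ c
  haveI : IsProper κ := inferInstance
  have hstalk : ∀ z : M.Z, c z ∉ T → IsIso (c.stalkMap z) := fun z hz =>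
    (MorphismProperty.isomorphisms CommRingCat).arrow_mk_iso_iff
      (morphismRestrictStalkMap c V ⟨z, hz⟩) |>.1 (inferInstanceAs (IsIso _))
  have hr : Set.range Γ.ι ⊆ Set.range (c ⁻¹ᵁ V).ι := by
    rw [Scheme.Opens.range_ι]
    rintro _ ⟨a, rfl⟩
    exact hΓ a
  haveI : IsPreimmersion (IsOpenImmersion.lift (c ⁻¹ᵁ V).ι Γ.ι hr ≫ (c ⁻¹ᵁ V).ι) := by
    rw [IsOpenImmersion.lift_fac]; infer_instance
  haveI : IsPreimmersion (IsOpenImmersion.lift (c ⁻¹ᵁ V).ι Γ.ι hr) :=
    IsPreimmersion.of_comp _ (c ⁻¹ᵁ V).ι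
  haveI : IsPreimmersion κ := by
    show IsPreimmersion (Γ.ι ≫ c)
    rw [← IsOpenImmersion.lift_fac (c ⁻¹ᵁ V).ι Γ.ι hr, Category.assoc, ← morphismRestrict_ι]
    infer_instance
  haveI : IsClosedImmersion κ := IsClosedImmersion.of_isPreimmersion κ κ.isClosedMap.isClosed_range
  haveI := Γ.isIntegral
  obtain ⟨heff, k, hk, e, ⟨φ⟩⟩ := id hE
  obtain ⟨Γ', hΓ', e', he'⟩ := exists_vertComp (X := Over.mk N.p) κ k e fun a => by
    show N.p ((Γ.ι ≫ c) a) = _
    rw [← Scheme.Hom.comp_apply, Category.assoc, hp]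
    show (Γ.ι ≫ (Over.mk M.p).hom) a = _
    rw [Γ.w, Scheme.Hom.comp_apply]
    generalize Γ.curve.hom a = w
    refine PrimeSpectrum.ext ?_
    show Ideal.comap (IsLocalRing.residue R) w.asIdeal = IsLocalRing.maximalIdeal R
    rw [(Ideal.eq_bot_or_top w.asIdeal).resolve_right w.isPrime.ne_top, ← RingHom.ker_eq_comap_bot,
      IsLocalRing.ker_residue]
  refine ⟨Γ', ?_, fun a => ⟨hΓ'.ge ⟨a, rfl⟩, hΓ'.le⟩⟩
  refine H26.ExcTransport.isExcCurve_of_ker κ Γ'.ι (SurfSeq.ker_eq_of_range κ Γ'.ι hΓ'.symm) ?_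
  have heff' : BlowUp.IsEffCartierIdeal κ.ker := by
    haveI : IsIntegral (Over.mk N.p).left := N.isIntegral
    haveI : LocallyOfFiniteType (Over.mk N.p).hom := (N.model.1.2.1 : LocallyOfFiniteType N.p)
    rw [show κ.ker = Γ'.ι.ker from SurfSeq.ker_eq_of_range κ Γ'.ι hΓ'.symm]
    have h2 : topologicalKrullDim N.Z = 2 := N.dim_eq_two hdim Γ'
    exact H26.InterSymm.isEffCartier_ker (X := Over.mk N.p) h2.le (fun h => absurd (h2.symm.trans h) (by decide))
      N.regular Γ'
  have hker : κ.ker.comap c = Γ.ι.ker := by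
    refine ext_sI fun z => ?_
    rw [sI_comap]
    by_cases hz : z ∈ Set.range Γ.ι
    · obtain ⟨a, rfl⟩ := hz
      haveI := hstalk _ (hΓ a)
      let ec := (asIso (c.stalkMap (Γ.ι a))).commRingCatIsoToRingEquiv
      rw [show sI κ.ker (c (Γ.ι a)) = RingHom.ker (κ.stalkMap a).hom from (ker_stalkMap_closed κ a).symm,
        Scheme.Hom.stalkMap_comp, CommRingCat.hom_comp, ← RingHom.comap_ker,
        ker_stalkMap_closed Γ.ι a]
      exact Ideal.map_comap_of_surjective _ ec.surjective _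
    · rw [sI_eq_top (I := Γ.ι.ker) (by
        rw [Scheme.Hom.support_ker]
        show z ∉ closure (Set.range Γ.ι)
        rwa [Γ.ι.isClosedEmbedding.isClosed_range.closure_eq])]
      rw [sI_eq_top, Ideal.map_top]
      rw [Scheme.Hom.support_ker]
      show c z ∉ closure (Set.range κ)
      rw [κ.isClosedEmbedding.isClosed_range.closure_eq]
      rintro ⟨a, ha⟩
      refine hz ⟨a, ?_⟩
      have hzT : c z ∉ T := fun h => hΓ a ((show c (Γ.ι a) = c z from ha) ▸ h)
      have e1 : (c ∣_ V) ⟨Γ.ι a, hΓ a⟩ = (c ∣_ V) ⟨z, hzT⟩ := Subtype.ext (by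
        rw [morphismRestrict_base_coe, morphismRestrict_base_coe]; exact ha)
      have := (c ∣_ V).homeomorph.injective e1
      exact congrArg Subtype.val this
  refine ⟨heff', k, hk, e, ⟨?_⟩⟩
  refine (Scheme.Modules.pullbackCongr (Category.assoc e.hom Γ.ι c).symm).app _ ≪≫
    ((Scheme.Modules.pullbackComp (e.hom ≫ Γ.ι) c).app _).symm ≪≫
    (Scheme.Modules.pullback (e.hom ≫ Γ.ι)).mapIso
      ((H26.InterDiv.nonempty_pullback_idealMod c κ.ker heff' (hker ▸ heff)).some ≪≫
        eqToIso (congrArg ClSub.idealMod hker)) ≪≫ φ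

omit hC hH0 hg in
/-- Over a minimal model every exceptional curve is contracted, when exceptional curves are disjoint. -/
theorem contracted (hd : DisjointExc (R := R) C f) {X₀ : Model C f}
    (hmin : Models.IsMinimalModel R X₀.Z X₀.p C f) :
    ∀ (M : Model C f) (r : M.Z ⟶ X₀.Z), r ≫ X₀.p = M.p → M.g ≫ r = X₀.g →
      ∀ Γ : ArSurf.VertComp R (Over.mk M.p), Models.IsExcCurve Γ.ι →
        ∃ x, Set.range (Γ.ι ≫ r) = {x} := by
  suffices key : ∀ {Z X : Scheme.{u}} (r : Z ⟶ X), Models.IsContractionSeq r →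
      ∀ (N : Model C f), Models.IsMinimalModel R N.Z N.p C f → ∀ (hX : X = N.Z) (M : Model C f) (hZ : Z = M.Z),
      eqToHom hZ.symm ≫ r ≫ eqToHom hX ≫ N.p = M.p → M.g ≫ eqToHom hZ.symm ≫ r ≫ eqToHom hX = N.g →
      ∀ Γ : ArSurf.VertComp R (Over.mk M.p), Models.IsExcCurve Γ.ι →
        ∃ x, Set.range (Γ.ι ≫ eqToHom hZ.symm ≫ r) = {x} by
    intro M r hp hgr Γ hΓ
    haveI := M.isIntegral
    haveI := X₀.isIntegral
    haveI := M.isNoetherian
    haveI := X₀.isNoetherian
    obtain ⟨hP, hbir⟩ := M.proper_birational X₀ r hp hgr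
    haveI := hP
    have hseq : Models.IsContractionSeq r := by
      simpa using SurfSeq.seq_of_birational (hX := M.regular) (hdX := M.dim_le hdim) r hbir X₀.regular
        (X₀.dim_le hdim) X₀.Z (𝟙 _) (Models.IsContractionSeq.iso (Iso.refl X₀.Z))
    simpa using key r hseq X₀ hmin rfl M rfl (by simpa using hp) (by simpa using hgr) Γ hΓ
  intro Z X r hr
  induction hr with
  | @iso Z X e =>
    intro N hN hX M hZ hp hgr Γ hΓ
    subst hX hZ
    simp only [eqToHom_refl, Category.id_comp] at hp hgr ⊢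
    obtain ⟨Γ', hΓ', -⟩ := M.transport hdim N e.hom hp ∅ isClosed_empty
      (by infer_instance) Γ hΓ (fun a => Set.notMem_empty _)
    exact absurd hΓ' (hN.2 Γ')
  | @step Z Z' X F ι c r' hι hF hc hr' ih =>
    intro N hN hX M hZ hp hgr Γ hΓ
    subst hX hZ
    simp only [eqToHom_refl, Category.id_comp, Category.assoc, Category.comp_id] at hp hgr ⊢
    haveI := M.isIntegral
    haveI := N.isIntegral
    haveI := N.isNoetherian
    haveI := N.isProper
    obtain ⟨hint, -, hreg, -, hP', -⟩ := Sol.of_seq hr' N.regular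
    haveI := hint
    haveI := hP'
    obtain ⟨hNZ, hcP, y, hy, -, hyreg, hyd, hbl⟩ := id hc
    haveI := hNZ
    haveI := hcP
    haveI := hyreg
    obtain ⟨hsq, hm⟩ := M.exists_of_contraction c (r' ≫ N.p) hp hreg y hy (PointBlow.isIso_off hy hbl)
    let M' : Model C f := ⟨Z', r' ≫ N.p, M.g ≫ c, hsq, hm⟩
    obtain ⟨F', ι', hι', hF'i, hF', hrange, -, eF, -⟩ := PointBlow.exists_exc hy hbl hyd
    haveI := hι'; haveI := hF'i
    have hyc : (r' ≫ N.p) y = closedPoint R := by
      have h := (r' ≫ N.p).isClosedMap _ hy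
      rw [Set.image_singleton] at h
      exact (Set.mem_singleton_iff.1 ((IsLocalRing.specializes_closedPoint _).mem_closed h rfl)).symm
    obtain ⟨ΓF, hΓF, e', he'⟩ := exists_vertComp (X := Over.mk M.p) ι' _ eF fun a => by
      show M.p (ι' a) = _
      rw [← hp, Scheme.Hom.comp_apply, show c (ι' a) = y from hrange.le ⟨a, rfl⟩]
      exact hyc
    have hΓFe : Models.IsExcCurve ΓF.ι :=
      H26.ExcTransport.isExcCurve_of_ker ι' ΓF.ι (SurfSeq.ker_eq_of_range ι' ΓF.ι hΓF.symm) hF'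
    by_cases hΓr : Set.range Γ.ι.base = Set.range ΓF.ι.base
    · refine ⟨r' y, ?_⟩
      rw [show Set.range (Γ.ι ≫ c ≫ r') = (fun z => r' (c z)) '' Set.range Γ.ι.base by
        rw [← Set.range_comp]; rfl, show Set.range Γ.ι.base = c ⁻¹' {y} from (hΓr.trans hΓF).trans hrange]
      have hne : (c ⁻¹' {y}).Nonempty := hrange ▸ ⟨_, genericPoint F', rfl⟩
      refine subset_antisymm ?_ ?_
      · rintro _ ⟨z, hz, rfl⟩
        show r' (c z) ∈ ({r' y} : Set N.Z)
        rw [show c z = y from hz]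
        rfl
      · rintro _ rfl
        obtain ⟨z, hz⟩ := hne
        exact ⟨z, hz, congrArg r' hz⟩
    have hdisj := hd M Γ ΓF hΓ hΓFe hΓr
    obtain ⟨Γ', hΓ', hΓ'r⟩ := M.transport hdim M' c hp {y} hy (PointBlow.isIso_off hy hbl) Γ hΓ fun a h =>
      hdisj.le_bot ⟨⟨a, rfl⟩, hΓF.ge (hrange.ge h)⟩
    obtain ⟨x, hx⟩ := ih N hN rfl M' rfl (by simp [M']) (by simpa [M'] using hgr) Γ' hΓ'
    simp only [eqToHom_refl, Category.id_comp] at hx
    refine ⟨x, subset_antisymm ?_ ?_⟩
    · rintro _ ⟨a, rfl⟩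
      obtain ⟨b, hb⟩ := (hΓ'r a).1
      rw [← hx]
      exact ⟨b, congrArg r' hb⟩
    · rintro _ rfl
      obtain ⟨-, h2⟩ := hΓ'r (genericPoint Γ.curve.left)
      obtain ⟨b, hb⟩ := hx.ge rfl
      obtain ⟨a, ha⟩ := h2 ⟨b, rfl⟩
      exact ⟨a, (congrArg r' ha).trans hb⟩

end Groth.Agent.MinModel
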