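import Mathlib
import Groth.Agent.CurveRes.Blow
import Groth.Agent.R1Push.Support
import Groth.Agent.Sol.Regular
import Groth.Agent.Sol.Seq
import Groth.Agent.FrobTwist.Invariants
import Groth.Agent.S7320

/-!
# Rational maps from regular surfaces to proper schemes extend after point blow-ups
-/

set_option autoImplicit false
set_option linter.style.haveILetI false
set_option linter.unusedSectionVars false
set_option backward.isDefEq.respectTransparency false
set_option backward.isDefEq.respectTransparency.types false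
set_option maxHeartbeats 800000

universe u

open CategoryTheory CategoryTheory.Limits AlgebraicGeometry TopologicalSpace

noncomputable section

namespace Groth.Agent.MinModel

/-- A rational map from a regular surface to a proper scheme extends after finitely many point blow-ups. -/
theorem exists_extension {S X Z : Scheme.{u}} [IsIntegral X] [IsNoetherian X]
    (hX1 : ∀ x : X, IsRegularLocalRing (X.presheaf.stalk x))
    (hd : ∀ x : X, ringKrullDim (X.presheaf.stalk x) ≤ 2) (sX : X ⟶ S) (sZ : Z ⟶ S) [IsProper sZ]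
    (U : X.Opens) (hU : (U : Set X).Nonempty) (φ : (U : Scheme.{u}) ⟶ Z) (hφ : φ ≫ sZ = U.ι ≫ sX) :
    ∃ (X' : Scheme.{u}) (f : X' ⟶ X) (g : X' ⟶ Z),
      Models.IsContractionSeq f ∧ g ≫ sZ = f ≫ sX ∧ (f ⁻¹ᵁ U).ι ≫ g = (f ∣_ U) ≫ φ := by
  haveI : Nonempty (U : Scheme.{u}) := hU.to_subtype
  haveI : IsIntegral (U : Scheme.{u}) := isIntegral_of_isOpenImmersion U.ι
  let j : (U : Scheme.{u}) ⟶ pullback sX sZ := pullback.lift U.ι φ hφ.symm
  have hj : j ≫ pullback.fst sX sZ = U.ι := pullback.lift_fst _ _ _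
  have hj2 : j ≫ pullback.snd sX sZ = φ := pullback.lift_snd _ _ _
  haveI : IsImmersion (j ≫ pullback.fst sX sZ) := by rw [hj]; infer_instance
  haveI : IsImmersion j := IsImmersion.of_comp j (pullback.fst sX sZ)
  haveI : QuasiCompact (j ≫ pullback.fst sX sZ) := by rw [hj]; infer_instance
  haveI : QuasiCompact j := QuasiCompact.of_comp j (pullback.fst sX sZ)
  haveI : IsIntegral j.image := CurveRes.isIntegral_image j
  let p : j.image ⟶ X := j.imageι ≫ pullback.fst sX sZ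
  haveI : IsProper p := inferInstance
  have hp : j.toImage ≫ p = U.ι := by
    show j.toImage ≫ j.imageι ≫ _ = _
    rw [Scheme.Hom.toImage_imageι_assoc, hj]
  have hbir : IsIso (p.stalkMap (genericPoint j.image)) := by
    rw [← genericPoint_eq_of_isOpenImmersion j.toImage]
    have h1 : IsIso ((j.toImage ≫ p).stalkMap (genericPoint (U : Scheme.{u}))) := by
      rw [Scheme.Hom.stalkMap_congr_hom _ _ hp]; infer_instance
    rw [Scheme.Hom.stalkMap_comp] at h1
    exact @IsIso.of_isIso_comp_right _ _ _ _ _ (p.stalkMap _) (j.toImage.stalkMap _) inferInstance h1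
  have hn : Pi1.IsNormalScheme X := FrobTwist.isNormalScheme_of_regular hX1
  obtain ⟨hTf, hTpt⟩ := R1Push.finite_bad hn hd p hbir
  set T := p '' {w | ¬ IsIso (p.stalkMap w)} with hTdef
  have hTc : IsClosed T := by
    rw [← Set.biUnion_of_singleton T]
    exact hTf.isClosed_biUnion hTpt
  have hT : ∀ x ∈ T, IsClosed ({x} : Set X) ∧ IsRegularLocalRing (X.presheaf.stalk x) ∧
      ringKrullDim (X.presheaf.stalk x) = 2 := by
    refine fun x hx => ⟨hTpt x hx, hX1 x, ?_⟩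
    obtain ⟨w, hw, rfl⟩ := hx
    exact SurfSeq.eq_two (hd _) fun h => hw (RatUp.isIso_of_dim_le_one_normal p hbir w (hn _).2 h)
  have hgenT : genericPoint X ∉ T := by
    rintro ⟨w, hw, hwx⟩
    refine hw (RatUp.isIso_of_dim_le_one_normal p hbir w (hn _).2 ?_)
    rw [hwx, ringKrullDim_stalk_eq_coheight, Order.coheight_eq_zero.2 fun z _ => genericPoint_specializes z]
    exact zero_le_one
  have hiso : IsIso (p ∣_ (⟨Tᶜ, hTc.isOpen_compl⟩ : X.Opens)) :=
    Sol.isIso_restrict_of_stalk p hbir _ ⟨_, hgenT⟩ fun x hx => by_contra fun h => hx ⟨x, h, rfl⟩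
  obtain ⟨X', f, hseq, -, h, hh⟩ := S7320.result X T hTf hTc hT p hiso
  refine ⟨X', f, h ≫ j.imageι ≫ pullback.snd sX sZ, hseq, ?_, ?_⟩
  · rw [Category.assoc, Category.assoc, ← pullback.condition, ← hh]
    simp only [p, Category.assoc]
  obtain ⟨hint, -, -, hfbir, hfP, -⟩ := Sol.of_seq hseq hX1
  haveI := hint
  haveI := hfP
  -- a nonempty open of `X` over which the graph maps isomorphically
  let W : X.Opens := (⟨Tᶜ, hTc.isOpen_compl⟩ : X.Opens) ⊓ U
  haveI : IsIso (p ∣_ W) := PointBlow.isIso_restrict_mono p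
    (U := (⟨Tᶜ, hTc.isOpen_compl⟩ : X.Opens)) inf_le_left
  have hWU : W ≤ U := inf_le_right
  have hgW : genericPoint X' ∈ f ⁻¹ᵁ W := by
    show f (genericPoint X') ∈ W
    rw [SurfSeq.map_generic f hfbir]
    exact ⟨hgenT, ((genericPoint_spec X).mem_open_set_iff U.2).2 (by simpa using hU)⟩
  let q : (f ⁻¹ᵁ W : Scheme.{u}) ⟶ (f ⁻¹ᵁ U : Scheme.{u}) := X'.homOfLE (f.preimage_mono hWU)
  have hsq : q ≫ (f ∣_ U) = (f ∣_ W) ≫ X.homOfLE hWU := by
    rw [← cancel_mono U.ι, Category.assoc, Category.assoc, morphismRestrict_ι, Scheme.homOfLE_ι,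
      morphismRestrict_ι, Scheme.homOfLE_ι_assoc]
  -- the two lifts to the graph agree over `W`
  have key : (f ⁻¹ᵁ W).ι ≫ h = (f ∣_ W) ≫ X.homOfLE hWU ≫ j.toImage := by
    have e1 : ((f ⁻¹ᵁ W).ι ≫ h) ≫ p = (f ∣_ W) ≫ W.ι := by rw [Category.assoc, hh, morphismRestrict_ι]
    have e2 : ((f ∣_ W) ≫ X.homOfLE hWU ≫ j.toImage) ≫ p = (f ∣_ W) ≫ W.ι := by
      rw [Category.assoc, Category.assoc, hp, Scheme.homOfLE_ι]
    have hr : ∀ {S : Scheme.{u}} (a : S ⟶ j.image)
        (b : S ⟶ (W : Scheme.{u})), a ≫ p = b ≫ W.ι → Set.range a ⊆ Set.range (p ⁻¹ᵁ W).ι := by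
      intro S a b hb
      rintro _ ⟨s, rfl⟩
      rw [Scheme.Opens.range_ι]
      show p (a s) ∈ W
      rw [← Scheme.Hom.comp_apply, hb, Scheme.Hom.comp_apply]
      exact (b s).2
    rw [← IsOpenImmersion.lift_fac (p ⁻¹ᵁ W).ι _ (hr _ _ e1),
      ← IsOpenImmersion.lift_fac (p ⁻¹ᵁ W).ι _ (hr _ _ e2)]
    congr 1
    rw [← cancel_mono (p ∣_ W), ← cancel_mono W.ι, Category.assoc, Category.assoc, morphismRestrict_ι,
      IsOpenImmersion.lift_fac_assoc, IsOpenImmersion.lift_fac_assoc, e1, e2]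
  haveI : Nonempty (f ⁻¹ᵁ W : Scheme.{u}) := ⟨⟨_, hgW⟩⟩
  haveI : Nonempty (f ⁻¹ᵁ U : Scheme.{u}) := ⟨q ⟨_, hgW⟩⟩
  haveI : IsIntegral (f ⁻¹ᵁ U : Scheme.{u}) := isIntegral_of_isOpenImmersion (f ⁻¹ᵁ U).ι
  haveI : IsOpenImmersion (q ≫ (f ⁻¹ᵁ U).ι) := by rw [Scheme.homOfLE_ι]; infer_instance
  haveI : IsOpenImmersion q := IsOpenImmersion.of_comp q (f ⁻¹ᵁ U).ι
  haveI : IsDominant q := ⟨q.opensRange.isOpen.dense ⟨_, ⟨⟨_, hgW⟩, rfl⟩⟩⟩
  let a : (f ⁻¹ᵁ U : Scheme.{u}) ⟶ Z := (f ⁻¹ᵁ U).ι ≫ h ≫ j.imageι ≫ pullback.snd sX sZ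
  let b : (f ⁻¹ᵁ U : Scheme.{u}) ⟶ Z := (f ∣_ U) ≫ φ
  have hab : a ≫ sZ = b ≫ sZ := by
    simp only [a, b, Category.assoc]
    rw [hφ, morphismRestrict_ι_assoc, ← pullback.condition, ← hh]
    simp only [p, Category.assoc]
  refine ext_of_isDominant_of_isSeparated (f := a) (g := b) sZ hab q ?_
  simp only [a, b]
  rw [Scheme.homOfLE_ι_assoc, reassoc_of% key, Scheme.Hom.toImage_imageι_assoc, hj2, reassoc_of% hsq]

end Groth.Agent.MinModel
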