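import Mathlib
import Groth.Agent.MinModel.Exc
import Groth.Agent.MinModel.Extend
import Groth.Agent.H26.NegDef
import Groth.Agent.H26.ExcCrit

/-!
# Relatively minimal desingularizations
-/

set_option autoImplicit false
set_option linter.style.haveILetI false
set_option linter.unusedSectionVars false
set_option backward.isDefEq.respectTransparency false
set_option backward.isDefEq.respectTransparency.types false
set_option maxHeartbeats 800000

universe u

open CategoryTheory CategoryTheory.Limits AlgebraicGeometry TopologicalSpace IsLocalRing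
open Groth.Agent.H23.StalkIdeal
open Groth.Agent.PointBlow (ker_stalkMap_closed sI_eq_top)

noncomputable section

namespace Groth.Agent.MinDesing

open Groth.Agent.MinModel (exists_vertComp exists_extension)

variable {R : Type u} [CommRing R] [IsDomain R] [IsDiscreteValuationRing R]

theorem map_genericPoint_of_flat {Z : Scheme.{u}} [IsIntegral Z] (p : Z ⟶ Spec (CommRingCat.of R)) [Flat p] :
    p (genericPoint Z) = genericPoint (Spec (CommRingCat.of R)) := by
  obtain ⟨η', -, hη'⟩ := Flat.generalizingMap (f := p) (genericPoint_specializes (p (genericPoint Z)))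
  exact ((((genericPoint_specializes η').map p.continuous).trans (specializes_of_eq hη')).antisymm
    (genericPoint_specializes _)).eq

/-- An integral flat scheme with stalks of dimension at most two containing a vertical curve is a surface. -/
theorem dim_eq_two {Z : Scheme.{u}} [IsIntegral Z] [IsLocallyNoetherian Z] (p : Z ⟶ Spec (CommRingCat.of R)) [Flat p]
    (hd : ∀ z : Z, ringKrullDim (Z.presheaf.stalk z) ≤ 2) (Γ : ArSurf.VertComp R (Over.mk p)) :
    topologicalKrullDim Z = 2 := by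
  have hle : ∀ z : Z, Order.coheight z ≤ 2 := fun z => by
    have h := hd z
    rw [ringKrullDim_stalk_eq_coheight] at h
    exact WithBot.coe_le_coe.1 h
  rw [topologicalKrullDim, Order.krullDim_eq_of_orderIso irreducibleSetEquivPoints]
  refine le_antisymm ?_ ?_
  · rw [Order.krullDim_eq_iSup_coheight_of_nonempty]
    exact WithBot.coe_le_coe.2 (iSup_le hle)
  obtain ⟨c, hc⟩ : ∃ c : Γ.curve.left, c ≠ genericPoint Γ.curve.left := by
    by_contra hall
    simp only [not_exists, not_not] at hall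
    haveI : Subsingleton Γ.curve.left := ⟨fun a b => (hall a).trans (hall b).symm⟩
    have h0 : topologicalKrullDim Γ.curve.left ≤ 0 := topologicalKrullDim_zero_of_discreteTopology _
    rw [Γ.dim_eq] at h0
    exact absurd h0 (by decide)
  let a : Z := Γ.ι (genericPoint Γ.curve.left)
  let b : Z := Γ.ι c
  have h1 : b < a := lt_iff_le_not_ge.2 ⟨(genericPoint_specializes c).map Γ.ι.continuous, fun h => hc
    (Γ.ι.isClosedEmbedding.injective (Specializes.antisymm h ((genericPoint_specializes c).map Γ.ι.continuous)).eq)⟩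
  have h2 : a < genericPoint Z := by
    refine lt_iff_le_not_ge.2 ⟨genericPoint_specializes _, fun h => ?_⟩
    have hs : Models.specialFibreSet R (Over.mk p) = (fun z => p z) ⁻¹' {closedPoint R} := rfl
    have ha : p a = closedPoint R := by
      show (Γ.ι ≫ (Over.mk p).hom) (genericPoint Γ.curve.left) = _
      rw [Γ.w, Scheme.Hom.comp_apply]
      generalize Γ.curve.hom (genericPoint Γ.curve.left) = w
      refine PrimeSpectrum.ext ?_
      show Ideal.comap (IsLocalRing.residue R) w.asIdeal = IsLocalRing.maximalIdeal R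
      rw [(Ideal.eq_bot_or_top w.asIdeal).resolve_right w.isPrime.ne_top, ← RingHom.ker_eq_comap_bot,
        IsLocalRing.ker_residue]
    have hg := map_genericPoint_of_flat p
    have hb : genericPoint Z = a :=
      ((genericPoint_specializes a).antisymm h).eq
    rw [hb, ha] at hg
    exact H26.HorizDeg.generic_ne_closed hg.symm
  exact Order.LTSeries.length_le_krullDim (((RelSeries.singleton _ b).snoc a h1).snoc (genericPoint Z) (by simpa using h2))


/-- An exceptional curve away from the centre of a modification stays exceptional. -/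
theorem transport {Z Z' : Scheme.{u}} [IsIntegral Z] [IsIntegral Z'] (p : Z ⟶ Spec (CommRingCat.of R))
    (p' : Z' ⟶ Spec (CommRingCat.of R)) [IsProper p'] [Flat p'] [IsLocallyNoetherian Z']
    (hreg' : ∀ z : Z', IsRegularLocalRing (Z'.presheaf.stalk z))
    (hd' : ∀ z : Z', ringKrullDim (Z'.presheaf.stalk z) ≤ 2)
    (c : Z ⟶ Z') [IsProper c] (hp : c ≫ p' = p) (T : Set Z')
    (hT : IsClosed T) (hiso : IsIso (c ∣_ (⟨Tᶜ, hT.isOpen_compl⟩ : Z'.Opens)))
    (Γ : ArSurf.VertComp R (Over.mk p)) (hE : Models.IsExcCurve Γ.ι) (hΓ : ∀ a, c (Γ.ι a) ∉ T) :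
    ∃ Γ' : ArSurf.VertComp R (Over.mk p'), Models.IsExcCurve Γ'.ι ∧
      ∀ a : Γ.curve.left, c (Γ.ι a) ∈ Set.range Γ'.ι.base ∧ Set.range Γ'.ι.base ⊆ Set.range (Γ.ι ≫ c) := by
  haveI : IsIntegral (Over.mk p').left := ‹IsIntegral Z'›
  haveI : LocallyOfFiniteType (Over.mk p').hom := (inferInstance : LocallyOfFiniteType p')
  haveI := hiso
  set V : Z'.Opens := ⟨Tᶜ, hT.isOpen_compl⟩
  let κ : Γ.curve.left ⟶ Z' := Γ.ι ≫ c
  haveI : IsProper κ := inferInstance
  have hstalk : ∀ z : Z, c z ∉ T → IsIso (c.stalkMap z) := fun z hz =>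
    (MorphismProperty.isomorphisms CommRingCat).arrow_mk_iso_iff
      (morphismRestrictStalkMap c V ⟨z, hz⟩) |>.1 (inferInstanceAs (IsIso _))
  have hr : Set.range Γ.ι ⊆ Set.range (c ⁻¹ᵁ V).ι := by
    rw [Scheme.Opens.range_ι]
    rintro _ ⟨a, rfl⟩
    exact hΓ a
  haveI : IsPreimmersion (IsOpenImmersion.lift (c ⁻¹ᵁ V).ι Γ.ι hr ≫ (c ⁻¹ᵁ V).ι) := by
    rw [IsOpenImmersion.lift_fac]; infer_instance
  haveI : IsPreimmersion (IsOpenImmersion.lift (c ⁻¹ᵁ V).ι Γ.ι hr) :=
    IsPreimmersion.of_comp _ (c ⁻¹ᵁ V).ι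
  haveI : IsPreimmersion κ := by
    show IsPreimmersion (Γ.ι ≫ c)
    rw [← IsOpenImmersion.lift_fac (c ⁻¹ᵁ V).ι Γ.ι hr, Category.assoc, ← morphismRestrict_ι]
    infer_instance
  haveI : IsClosedImmersion κ := IsClosedImmersion.of_isPreimmersion κ κ.isClosedMap.isClosed_range
  haveI := Γ.isIntegral
  obtain ⟨heff, k, hk, e, ⟨φ⟩⟩ := id hE
  obtain ⟨Γ', hΓ', e', he'⟩ := exists_vertComp (X := Over.mk p') κ k e fun a => by
    show p' ((Γ.ι ≫ c) a) = _
    rw [← Scheme.Hom.comp_apply, Category.assoc, hp]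
    show (Γ.ι ≫ (Over.mk p).hom) a = _
    rw [Γ.w, Scheme.Hom.comp_apply]
    generalize Γ.curve.hom a = w
    refine PrimeSpectrum.ext ?_
    show Ideal.comap (IsLocalRing.residue R) w.asIdeal = IsLocalRing.maximalIdeal R
    rw [(Ideal.eq_bot_or_top w.asIdeal).resolve_right w.isPrime.ne_top, ← RingHom.ker_eq_comap_bot,
      IsLocalRing.ker_residue]
  refine ⟨Γ', ?_, fun a => ⟨hΓ'.ge ⟨a, rfl⟩, hΓ'.le⟩⟩
  refine H26.ExcTransport.isExcCurve_of_ker κ Γ'.ι (SurfSeq.ker_eq_of_range κ Γ'.ι hΓ'.symm) ?_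
  have heff' : BlowUp.IsEffCartierIdeal κ.ker := by
    rw [show κ.ker = Γ'.ι.ker from SurfSeq.ker_eq_of_range κ Γ'.ι hΓ'.symm]
    have h2 : topologicalKrullDim Z' = 2 := dim_eq_two p' hd' Γ'
    exact H26.InterSymm.isEffCartier_ker (X := Over.mk p') h2.le (fun h => absurd (h2.symm.trans h) (by decide))
      hreg' Γ'
  have hker : κ.ker.comap c = Γ.ι.ker := by
    refine ext_sI fun z => ?_
    rw [sI_comap]
    by_cases hz : z ∈ Set.range Γ.ι
    · obtain ⟨a, rfl⟩ := hz
      haveI := hstalk _ (hΓ a)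
      let ec := (asIso (c.stalkMap (Γ.ι a))).commRingCatIsoToRingEquiv
      rw [show sI κ.ker (c (Γ.ι a)) = RingHom.ker (κ.stalkMap a).hom from (ker_stalkMap_closed κ a).symm,
        Scheme.Hom.stalkMap_comp, CommRingCat.hom_comp, ← RingHom.comap_ker,
        ker_stalkMap_closed Γ.ι a]
      exact Ideal.map_comap_of_surjective _ ec.surjective _
    · rw [sI_eq_top (I := Γ.ι.ker) (by
        rw [Scheme.Hom.support_ker]
        show z ∉ closure (Set.range Γ.ι)
        rwa [Γ.ι.isClosedEmbedding.isClosed_range.closure_eq])]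
      rw [sI_eq_top, Ideal.map_top]
      rw [Scheme.Hom.support_ker]
      show c z ∉ closure (Set.range κ)
      rw [κ.isClosedEmbedding.isClosed_range.closure_eq]
      rintro ⟨a, ha⟩
      refine hz ⟨a, ?_⟩
      have hzT : c z ∉ T := fun h => hΓ a ((show c (Γ.ι a) = c z from ha) ▸ h)
      have e1 : (c ∣_ V) ⟨Γ.ι a, hΓ a⟩ = (c ∣_ V) ⟨z, hzT⟩ := Subtype.ext (by
        rw [morphismRestrict_base_coe, morphismRestrict_base_coe]; exact ha)
      have := (c ∣_ V).homeomorph.injective e1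
      exact congrArg Subtype.val this
  refine ⟨heff', k, hk, e, ⟨?_⟩⟩
  refine (Scheme.Modules.pullbackCongr (Category.assoc e.hom Γ.ι c).symm).app _ ≪≫
    ((Scheme.Modules.pullbackComp (e.hom ≫ Γ.ι) c).app _).symm ≪≫
    (Scheme.Modules.pullback (e.hom ≫ Γ.ι)).mapIso
      ((H26.InterDiv.nonempty_pullback_idealMod c κ.ker heff' (hker ▸ heff)).some ≪≫
        eqToIso (congrArg ClSub.idealMod hker)) ≪≫ φ


/-- Sequences of contractions over a surface have stalks of dimension at most two. -/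
theorem dim_le_of_seq {Z X : Scheme.{u}} {r : Z ⟶ X} (hr : Models.IsContractionSeq r) :
    ∀ [IsIntegral X] [IsNoetherian X], (∀ x : X, IsRegularLocalRing (X.presheaf.stalk x)) →
      (∀ x : X, ringKrullDim (X.presheaf.stalk x) ≤ 2) → ∀ z : Z, ringKrullDim (Z.presheaf.stalk z) ≤ 2 := by
  induction hr with
  | iso e =>
    intro _ _ _ hd z
    exact (ringKrullDim_eq_of_ringEquiv (asIso (e.hom.stalkMap z)).commRingCatIsoToRingEquiv).symm.trans_le (hd _)
  | @step Y Z X E ι b r hι hE hb hr ih =>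
    intro _ _ hreg hd y₁
    obtain ⟨hint, hN, hregZ, -, -, -⟩ := Sol.of_seq hr hreg
    haveI := hint
    haveI := hN
    have hdZ := ih hreg hd
    obtain ⟨-, hP, x, hx, -, hxreg, hd2, hbl⟩ := hb
    haveI := hP
    haveI := hxreg
    haveI : CompactSpace Y := QuasiCompact.compactSpace_of_compactSpace b
    haveI : IsLocallyNoetherian Y := LocallyOfFiniteType.isLocallyNoetherian b
    haveI : IsNoetherian Y := {}
    obtain ⟨w, hyw, hw⟩ : ∃ w ∈ closure ({y₁} : Set Y), IsClosed ({w} : Set Y) :=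
      isClosed_closure.exists_closed_singleton ⟨y₁, subset_closure rfl⟩
    have hle : ringKrullDim (Y.presheaf.stalk y₁) ≤ ringKrullDim (Y.presheaf.stalk w) := by
      rw [ringKrullDim_stalk_eq_coheight, ringKrullDim_stalk_eq_coheight]
      exact WithBot.coe_le_coe.2 (Order.coheight_anti (show w ≤ y₁ from specializes_iff_mem_closure.2 hyw))
    refine hle.trans ?_
    by_cases hwy : b w = x
    · exact (PointBlow.stalk_over hx hbl hd2 hw hwy).2.le
    · haveI := PointBlow.isIso_stalkMap_off hx hbl hwy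
      exact (ringKrullDim_eq_of_ringEquiv (asIso (b.stalkMap w)).commRingCatIsoToRingEquiv).symm.trans_le (hdZ _)

/-- A regular birational modification of `Y`. -/
structure RS (Y : Scheme.{u}) where
  Z : Scheme.{u}
  h : Z ⟶ Y
  int : IsIntegral Z
  noeth : IsNoetherian Z
  reg : ∀ z : Z, IsRegularLocalRing (Z.presheaf.stalk z)
  dim : ∀ z : Z, ringKrullDim (Z.presheaf.stalk z) ≤ 2
  prop : IsProper h
  bir : haveI := int; IsIso (h.stalkMap (genericPoint Z))

variable {Y : Scheme.{u}}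

theorem stalk_comp {Z X : Scheme.{u}} [IsIntegral Z] [IsIntegral X] (r : Z ⟶ X) [LocallyOfFiniteType r] (q : X ⟶ Y)
    (hr : IsIso (r.stalkMap (genericPoint Z))) (hq : IsIso (q.stalkMap (genericPoint X))) :
    IsIso ((r ≫ q).stalkMap (genericPoint Z)) := by
  have e := SurfSeq.map_generic r hr
  rw [Scheme.Hom.stalkMap_comp]
  haveI := hr
  haveI : IsIso (q.stalkMap (r (genericPoint Z))) := by rw [e]; exact hq
  infer_instance

/-- The source of a sequence of contractions to a modification is a modification. -/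
def RS.ofSeq (N : RS Y) {Z : Scheme.{u}} (r : Z ⟶ N.Z) (hr : Models.IsContractionSeq r) : RS Y :=
  haveI := N.int
  haveI := N.noeth
  haveI := N.prop
  haveI := (Sol.of_seq hr N.reg).choose
  haveI : IsProper r := (Sol.of_seq hr N.reg).choose_spec.2.2.2.1
  { Z := Z
    h := r ≫ N.h
    int := inferInstance
    noeth := (Sol.of_seq hr N.reg).choose_spec.1
    reg := (Sol.of_seq hr N.reg).choose_spec.2.1
    dim := dim_le_of_seq hr N.reg N.dim
    prop := inferInstance
    bir := stalk_comp r N.h (Sol.of_seq hr N.reg).choose_spec.2.2.1 N.bir }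

variable (s : Y ⟶ Spec (CommRingCat.of R)) [IsProper s] [Flat s] [IsIntegral Y]

theorem RS.flat (M : RS Y) : Flat (M.h ≫ s) := by
  haveI := M.int
  haveI := M.prop
  refine DescLib.flat_of_dominant_integral (M.h ≫ s) ?_
  rw [Scheme.Hom.comp_apply, SurfSeq.map_generic M.h M.bir, map_genericPoint_of_flat s,
    genericPoint_eq_bot_of_affine (CommRingCat.of R)]
  rfl

variable (hn : Pi1.IsNormalScheme Y) (hdimY : topologicalKrullDim Y = 2)
include hn hdimY s

theorem RS.exists_open (M : RS Y) : ∃ U : Y.Opens, (U : Set Y).Nonempty ∧ IsIso (M.h ∣_ U) := by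
  haveI := M.int
  haveI := M.prop
  haveI : IsLocallyNoetherian Y := LocallyOfFiniteType.isLocallyNoetherian s
  haveI : CompactSpace Y := QuasiCompact.compactSpace_of_compactSpace s
  haveI : IsNoetherian Y := {}
  have hd : ∀ y : Y, ringKrullDim (Y.presheaf.stalk y) ≤ 2 :=
    fun y => (SchTop.ringKrullDim_stalk_le y).trans hdimY.le
  obtain ⟨hTf, hTpt⟩ := R1Push.finite_bad hn hd M.h M.bir
  set T := M.h '' {w | ¬ IsIso (M.h.stalkMap w)}
  have hTc : IsClosed T := by
    rw [← Set.biUnion_of_singleton T]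
    exact hTf.isClosed_biUnion hTpt
  have hgen : genericPoint Y ∉ T := by
    rintro ⟨w, hw, hwx⟩
    refine hw (RatUp.isIso_of_dim_le_one_normal M.h M.bir w (hn _).2 ?_)
    rw [hwx, ringKrullDim_stalk_eq_coheight, Order.coheight_eq_zero.2 fun z _ => genericPoint_specializes z]
    exact zero_le_one
  exact ⟨⟨Tᶜ, hTc.isOpen_compl⟩, ⟨_, hgen⟩,
    Sol.isIso_restrict_of_stalk M.h M.bir _ ⟨_, hgen⟩ fun x hx => by_contra fun h => hx ⟨x, h, rfl⟩⟩

open scoped Groth.Agent.H23.PicMul in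
/-- Two exceptional curves contracted to the same point of `Y` are disjoint. -/
theorem RS.disjoint_exc (M : RS Y) (Γ₁ Γ₂ : ArSurf.VertComp R (Over.mk (M.h ≫ s)))
    (h₁ : Models.IsExcCurve Γ₁.ι) (h₂ : Models.IsExcCurve Γ₂.ι) (y : Y)
    (hy₁ : Set.range (Γ₁.ι ≫ M.h) = {y}) (hy₂ : Set.range (Γ₂.ι ≫ M.h) = {y})
    (hne : Set.range Γ₁.ι.base ≠ Set.range Γ₂.ι.base) :
    Disjoint (Set.range Γ₁.ι.base) (Set.range Γ₂.ι.base) := by
  let X : Over (Spec (CommRingCat.of R)) := Over.mk (M.h ≫ s)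
  let Y' : Over (Spec (CommRingCat.of R)) := Over.mk s
  haveI := M.int
  haveI := M.prop
  haveI := M.noeth
  haveI : IsIntegral X.left := M.int
  haveI : IsLocallyNoetherian X.left := M.noeth.toIsLocallyNoetherian
  haveI : IsIntegral Y'.left := ‹IsIntegral Y›
  haveI : IsProper X.hom := inferInstanceAs (IsProper (M.h ≫ s))
  haveI : Flat X.hom := M.flat s
  haveI : Flat (M.h ≫ s) := M.flat s
  haveI : Flat Y'.hom := ‹Flat s›
  haveI : LocallyOfFiniteType Y'.hom := inferInstanceAs (LocallyOfFiniteType s)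
  obtain ⟨U, hU, hUi⟩ := M.exists_open s hn hdimY
  haveI := hUi
  let φ : X ⟶ Y' := Over.homMk M.h rfl
  haveI : IsProper φ.left := M.prop
  haveI : IsIso (φ.left ∣_ U) := hUi
  have hy : IsClosed ({y} : Set Y) := by
    rw [← hy₁, Scheme.Hom.comp_base, TopCat.coe_comp, Set.range_comp]
    exact M.h.isClosedMap _ Γ₁.ι.isClosedEmbedding.isClosed_range
  obtain ⟨n, Γc, hΓc⟩ := H26.CompList.exists_componentList (X := X) (dim_eq_two (M.h ≫ s) M.dim Γ₁)
  have hinv : ∀ {Γ : ArSurf.VertComp R X}, BlowUp.IsEffCartierIdeal Γ.ι.ker →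
      ∃ L, ClSub.IsInverseOf L (ClSub.idealMod Γ.ι.ker) := fun {Γ} heff => by
    obtain ⟨L, -, ⟨e⟩⟩ := H23.PicInv.exists_inverse (H26.IdealCl.isInvertible_idealMod heff)
    obtain ⟨c⟩ := H23.PicMul.comm L (ClSub.idealMod Γ.ι.ker)
    first
      | exact ⟨L, ⟨e⟩⟩
      | exact ⟨L, ⟨c ≪≫ e⟩⟩
  obtain ⟨L₁, hL₁⟩ := hinv h₁.1
  obtain ⟨L₂, hL₂⟩ := hinv h₂.1
  by_contra hmeet
  have key := H26.NegDef.sum_neg hΓc (Y := Y') (fun q => (hn q).2) hdimY φ hU y hy M.reg ![Γ₁, Γ₂]
    (fun i j hij => by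
      fin_cases i <;> fin_cases j <;> first | rfl | exact absurd hij hne | exact absurd hij.symm hne)
    (fun i => by fin_cases i <;> assumption) ![L₁, L₂]
    (fun i => by fin_cases i <;> assumption) ![1, 1] (fun h => one_ne_zero (congrFun h 0))
  obtain ⟨-, e1⟩ := H26.ExcCrit.invariants_of_exc Γ₁ h₁.1 hL₁ h₁
  obtain ⟨-, e2⟩ := H26.ExcCrit.invariants_of_exc Γ₂ h₂.1 hL₂ h₂
  have es := H26.InterSymm.inter_symm Γ₁ Γ₂ hne h₁.1 h₂.1 hL₁ hL₂
  have hsupp : (Γ₂.ι.ker.support : Set X.left) = Set.range Γ₂.ι.base := by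
    rw [Scheme.Hom.support_ker]
    exact Γ₂.ι.isClosedEmbedding.isClosed_range.closure_eq
  have h0 := H26.InterDiv.inter_nonneg_and_eq_zero_iff Γ₁ h₂.1
    (by rw [hsupp]; exact H26.InterSymm.genPt_notMem Γ₁ Γ₂ hne) hL₂
  rw [hsupp] at h0
  have hpos : 0 < ArSurf.inter R X L₂ Γ₁ := lt_of_le_of_ne h0.1 fun h => hmeet (h0.2.1 h.symm)
  have hi₁ : PicF.IsInvertible L₁ := H26.ArInter.isInvertible_of_inverse (H26.IdealCl.isInvertible_idealMod h₁.1) hL₁
  have hi₂ : PicF.IsInvertible L₂ := H26.ArInter.isInvertible_of_inverse (H26.IdealCl.isInvertible_idealMod h₂.1) hL₂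
  have d1 := Int.le_of_dvd hpos (H26.WDeg.wdeg_dvd_inter Γ₁ hi₂)
  have d2 := Int.le_of_dvd (es ▸ hpos) (H26.WDeg.wdeg_dvd_inter Γ₂ hi₁)
  simp only [Fintype.sum_prod_type, Fin.sum_univ_two, Matrix.cons_val_zero, Matrix.cons_val_one, one_mul] at key
  rw [e1, e2, ← es] at key
  rw [← es] at d2
  change _ + _ + (_ + _) < (0 : ℤ) at key
  omega

omit hn hdimY in
/-- A curve lying over a closed point is vertical. -/
theorem RS.exists_vert (M : RS Y) {E : Scheme.{u}} (ι : E ⟶ M.Z) [IsClosedImmersion ι] [IsIntegral E]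
    (k : Type u) [Field k] (e : CohB1.ProjSpace 1 k ≅ E) {y : Y} (hy : IsClosed ({y} : Set Y))
    (h : ∀ a, M.h (ι a) = y) :
    ∃ Γ : ArSurf.VertComp R (Over.mk (M.h ≫ s)), Set.range Γ.ι.base = Set.range ι := by
  have hys : s y = closedPoint R := by
    have h' := s.isClosedMap _ hy
    rw [Set.image_singleton] at h'
    exact (Set.mem_singleton_iff.1 ((IsLocalRing.specializes_closedPoint _).mem_closed h' rfl)).symm
  obtain ⟨Γ, hΓ, -⟩ := exists_vertComp (X := Over.mk (M.h ≫ s)) ι k e fun a => by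
    show s (M.h (ι a)) = _
    rw [h a, hys]
  exact ⟨Γ, hΓ⟩

/-- Exceptional curves over a minimal desingularization are contracted. -/
theorem contracted {X : RS Y}
    (hexc : ∀ {E : Scheme.{u}} (ι : E ⟶ X.Z) [IsClosedImmersion ι], Models.IsExcCurve ι →
      ¬ ∃ y : Y, Set.range (ι ≫ X.h) = {y})
    {Z : Scheme.{u}} {X' : Scheme.{u}} {r : Z ⟶ X'} (hr : Models.IsContractionSeq r) :
    ∀ (e : X' = X.Z) (M : RS Y) (e' : Z = M.Z), eqToHom e'.symm ≫ r ≫ eqToHom e ≫ X.h = M.h →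
      ∀ Γ : ArSurf.VertComp R (Over.mk (M.h ≫ s)), Models.IsExcCurve Γ.ι →
        (∃ y, Set.range (Γ.ι ≫ M.h) = {y}) → ∃ x, Set.range (Γ.ι ≫ eqToHom e'.symm ≫ r) = {x} := by
  induction hr with
  | @iso Z X' e₀ =>
    intro e M e' hp Γ hΓ hy
    subst e e'
    simp only [eqToHom_refl, Category.id_comp] at hp ⊢
    obtain ⟨y, hy⟩ := hy
    haveI := M.int
    haveI := X.int
    haveI := X.noeth
    haveI := X.prop
    haveI := X.flat s
    have hpz : ∀ z, M.h z = X.h (e₀.hom z) := fun z => by rw [← hp]; rfl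
    obtain ⟨Γ', hΓ', hr'⟩ := transport (M.h ≫ s) (X.h ≫ s) X.reg X.dim e₀.hom (by rw [← hp, Category.assoc])
      ∅ isClosed_empty (by infer_instance) Γ hΓ (fun a => Set.notMem_empty _)
    refine absurd ⟨y, ?_⟩ (hexc Γ'.ι hΓ')
    refine subset_antisymm ?_ ?_
    · rintro _ ⟨a, rfl⟩
      obtain ⟨b, hb⟩ := (hr' (genericPoint Γ.curve.left)).2 ⟨a, rfl⟩
      refine hy.le ⟨b, ?_⟩
      exact (hpz (Γ.ι b)).trans (congrArg X.h hb)
    · rintro _ rfl
      obtain ⟨b, hb⟩ := (hr' (genericPoint Γ.curve.left)).1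
      refine ⟨b, ?_⟩
      exact ((congrArg X.h hb).trans (hpz _).symm).trans (hy.le ⟨genericPoint Γ.curve.left, rfl⟩)
  | @step Z Z' X' F ι c r' hι hF hc hr' ih =>
    intro e M e' hp Γ hΓ hy
    subst e e'
    simp only [eqToHom_refl, Category.id_comp, Category.assoc, Category.comp_id] at hp ⊢
    obtain ⟨y₀, hy₀⟩ := hy
    let M' : RS Y := X.ofSeq r' hr'
    haveI := M.int
    haveI : IsIntegral Z' := M'.int
    haveI : IsNoetherian Z' := M'.noeth
    haveI : IsProper (r' ≫ X.h) := M'.prop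
    haveI : Flat (M'.h ≫ s) := M'.flat s
    haveI : IsProper M'.h := M'.prop
    haveI : IsIntegral M'.Z := M'.int
    haveI : IsNoetherian M'.Z := M'.noeth
    have hpz : ∀ z, M.h z = (r' ≫ X.h) (c z) := fun z => by rw [← hp]; rfl
    obtain ⟨hNZ, hcP, y, hy, -, hyreg, hyd, hbl⟩ := id hc
    haveI := hcP
    haveI := hyreg
    obtain ⟨F', ι', hι', hF'i, hF', hrange, -, eF, -⟩ := PointBlow.exists_exc hy hbl hyd
    haveI := hι'; haveI := hF'i
    have hwy : IsClosed ({(r' ≫ X.h) y} : Set Y) := by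
      rw [← Set.image_singleton]
      exact (r' ≫ X.h).isClosedMap _ hy
    obtain ⟨ΓF, hΓF⟩ := M.exists_vert s ι' _ eF hwy fun a => by
      rw [← hp, Scheme.Hom.comp_apply, show c (ι' a) = y from hrange.le ⟨a, rfl⟩]
    have hΓFe : Models.IsExcCurve ΓF.ι :=
      H26.ExcTransport.isExcCurve_of_ker ι' ΓF.ι (SurfSeq.ker_eq_of_range ι' ΓF.ι hΓF.symm) hF'
    by_cases hΓr : Set.range Γ.ι.base = Set.range ΓF.ι.base
    · refine ⟨r' y, ?_⟩
      rw [show Set.range (Γ.ι ≫ c ≫ r') = (fun z => r' (c z)) '' Set.range Γ.ι.base by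
        rw [← Set.range_comp]; rfl, show Set.range Γ.ι.base = c ⁻¹' {y} from (hΓr.trans hΓF).trans hrange]
      have hne : (c ⁻¹' {y}).Nonempty := hrange ▸ ⟨_, genericPoint F', rfl⟩
      refine subset_antisymm ?_ ?_
      · rintro _ ⟨z, hz, rfl⟩
        show r' (c z) ∈ ({r' y} : Set X.Z)
        rw [show c z = y from hz]
        rfl
      · rintro _ rfl
        obtain ⟨z, hz⟩ := hne
        exact ⟨z, hz, congrArg r' hz⟩
    have hdisj : Disjoint (Set.range Γ.ι.base) (Set.range ΓF.ι.base) := by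
      by_contra hmeet
      obtain ⟨w, ⟨a, ha⟩, hwF⟩ := Set.not_disjoint_iff.1 hmeet
      have hw : M.h w = (r' ≫ X.h) y := by
        rw [← hp, Scheme.Hom.comp_apply, show c w = y from hrange.le (hΓF.le hwF)]
      have hyy : y₀ = (r' ≫ X.h) y := by
        rw [← hw, ← ha]
        exact (hy₀.le ⟨a, rfl⟩).symm
      refine hmeet (M.disjoint_exc s hn hdimY Γ ΓF hΓ hΓFe y₀ hy₀ ?_ hΓr)
      refine subset_antisymm ?_ ?_
      · rintro _ ⟨b, rfl⟩
        show M.h (ΓF.ι b) ∈ _
        rw [hpz, show c (ΓF.ι b) = y from hrange.le (hΓF.le ⟨b, rfl⟩), hyy]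
        rfl
      · rintro _ rfl
        obtain ⟨b, rfl⟩ := hwF
        exact ⟨b, hw.trans hyy.symm⟩
    obtain ⟨Γ', hΓ', hΓ'r⟩ := transport (M.h ≫ s) (M'.h ≫ s) M'.reg M'.dim c
      (by rw [← hp]; simp [M', RS.ofSeq]) {y} hy (PointBlow.isIso_off hy hbl) Γ hΓ fun a h =>
      hdisj.le_bot ⟨⟨a, rfl⟩, hΓF.ge (hrange.ge h)⟩
    have hy' : Set.range (Γ'.ι ≫ M'.h) = {y₀} := by
      refine subset_antisymm ?_ ?_
      · rintro _ ⟨a, rfl⟩
        obtain ⟨b, hb⟩ := (hΓ'r (genericPoint Γ.curve.left)).2 ⟨a, rfl⟩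
        refine hy₀.le ⟨b, ?_⟩
        exact (hpz (Γ.ι b)).trans (congrArg (r' ≫ X.h) hb)
      · rintro _ rfl
        obtain ⟨b, hb⟩ := (hΓ'r (genericPoint Γ.curve.left)).1
        refine ⟨b, ?_⟩
        exact ((congrArg (r' ≫ X.h) hb).trans (hpz _).symm).trans (hy₀.le ⟨genericPoint Γ.curve.left, rfl⟩)
    obtain ⟨x, hx⟩ := ih rfl M' rfl (by simp [M', RS.ofSeq]) Γ' hΓ' ⟨y₀, hy'⟩
    simp only [eqToHom_refl, Category.id_comp] at hx
    refine ⟨x, subset_antisymm ?_ ?_⟩
    · rintro _ ⟨a, rfl⟩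
      obtain ⟨b, hb⟩ := (hΓ'r a).1
      rw [← hx]
      exact ⟨b, congrArg r' hb⟩
    · rintro _ rfl
      obtain ⟨-, h2⟩ := hΓ'r (genericPoint Γ.curve.left)
      obtain ⟨b, hb⟩ := hx.ge rfl
      obtain ⟨a, ha⟩ := h2 ⟨b, rfl⟩
      exact ⟨a, (congrArg r' ha).trans hb⟩

/-- Morphisms descend along contractions. -/
theorem descend {X : RS Y}
    (hexc : ∀ {E : Scheme.{u}} (ι : E ⟶ X.Z) [IsClosedImmersion ι], Models.IsExcCurve ι →
      ¬ ∃ y : Y, Set.range (ι ≫ X.h) = {y})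
    {Z N' : Scheme.{u}} {r : Z ⟶ N'} (hr : Models.IsContractionSeq r) :
    ∀ (N : RS Y) (e : N' = N.Z) (M : RS Y) (e' : Z = M.Z),
      eqToHom e'.symm ≫ r ≫ eqToHom e ≫ N.h = M.h →
      ∀ b : M.Z ⟶ X.Z, b ≫ X.h = M.h → ∃ b' : N.Z ⟶ X.Z, b' ≫ X.h = N.h := by
  induction hr with
  | @iso Z N' e₀ =>
    intro N e M e' hp b hb
    subst e e'
    simp only [eqToHom_refl, Category.id_comp] at hp
    refine ⟨e₀.inv ≫ b, ?_⟩
    rw [Category.assoc, hb, ← hp, Iso.inv_hom_id_assoc]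
  | @step Z Z' N' F ι c r' hι hF hc hr' ih =>
    intro N e M e' hp b hb
    subst e e'
    simp only [eqToHom_refl, Category.id_comp, Category.assoc] at hp
    let M' : RS Y := N.ofSeq r' hr'
    haveI := M.int
    haveI := M.noeth
    haveI := M.prop
    haveI := X.int
    haveI := X.noeth
    haveI := X.prop
    haveI : IsIntegral Z' := M'.int
    haveI : IsNoetherian Z' := M'.noeth
    haveI : IsProper (r' ≫ N.h) := M'.prop
    obtain ⟨hNZ, hcP, y, hy, hrg, hyreg, hyd, hbl⟩ := id hc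
    haveI := hcP
    haveI := hyreg
    obtain ⟨F', ι', hι', hF'i, hF', hrange, -, eF, -⟩ := PointBlow.exists_exc hy hbl hyd
    haveI := hι'; haveI := hF'i
    have hwy : IsClosed ({(r' ≫ N.h) y} : Set Y) := by
      rw [← Set.image_singleton]
      exact (r' ≫ N.h).isClosedMap _ hy
    have hFy : ∀ a, M.h (ι' a) = (r' ≫ N.h) y := fun a => by
      rw [← hp, Scheme.Hom.comp_apply, show c (ι' a) = y from hrange.le ⟨a, rfl⟩]
    obtain ⟨ΓF, hΓF⟩ := M.exists_vert s ι' _ eF hwy hFy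
    have hΓFe : Models.IsExcCurve ΓF.ι :=
      H26.ExcTransport.isExcCurve_of_ker ι' ΓF.ι (SurfSeq.ker_eq_of_range ι' ΓF.ι hΓF.symm) hF'
    have hFrange : Set.range (ΓF.ι ≫ M.h) = {(r' ≫ N.h) y} := by
      refine subset_antisymm ?_ ?_
      · rintro _ ⟨a, rfl⟩
        obtain ⟨a', ha'⟩ := hΓF.le ⟨a, rfl⟩
        exact (congrArg M.h ha').symm.trans (hFy a')
      · rintro _ rfl
        obtain ⟨a, ha⟩ := hΓF.ge ⟨genericPoint F', rfl⟩
        exact ⟨a, (congrArg M.h ha).trans (hFy _)⟩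
    haveI : IsProper b := by
      haveI : IsProper (b ≫ X.h) := by rw [hb]; infer_instance
      exact IsProper.of_comp b X.h
    have hbbir : IsIso (b.stalkMap (genericPoint M.Z)) := by
      have h1 : IsIso ((b ≫ X.h).stalkMap (genericPoint M.Z)) := by
        rw [Scheme.Hom.stalkMap_congr_hom _ _ hb]
        haveI := M.bir
        infer_instance
      have hgen : b (genericPoint M.Z) = genericPoint X.Z := by
        obtain ⟨U, hU, hUi⟩ := X.exists_open s hn hdimY
        haveI := hUi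
        have hbg : X.h (b (genericPoint M.Z)) = genericPoint Y := by
          rw [← Scheme.Hom.comp_apply, hb]; exact SurfSeq.map_generic M.h M.bir
        have hxU : X.h (genericPoint X.Z) = genericPoint Y := SurfSeq.map_generic X.h X.bir
        exact SurfSeq.eq_of_isIso X.h X.bir (hxU.trans hbg.symm) X.bir
      rw [Scheme.Hom.stalkMap_comp] at h1
      haveI : IsIso (X.h.stalkMap (b (genericPoint M.Z))) := by rw [hgen]; exact X.bir
      exact @IsIso.of_isIso_comp_left _ _ _ _ _ (X.h.stalkMap (b (genericPoint M.Z)))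
        (b.stalkMap (genericPoint M.Z)) inferInstance h1
    have hseq : Models.IsContractionSeq b := by
      simpa using SurfSeq.seq_of_birational (hX := M.reg) (hdX := M.dim) b hbbir X.reg X.dim X.Z (𝟙 _)
        (Models.IsContractionSeq.iso (Iso.refl X.Z))
    obtain ⟨x, hx⟩ := contracted s hn hdimY hexc hseq rfl M rfl (by simpa using hb) ΓF hΓFe ⟨_, hFrange⟩
    simp only [eqToHom_refl, Category.id_comp] at hx
    have hrc : Set.range (ι' ≫ c) = {y} := by
      refine subset_antisymm ?_ ?_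
      · rintro _ ⟨a, rfl⟩
        exact hrange.le ⟨a, rfl⟩
      · rintro _ rfl
        exact ⟨genericPoint F', hrange.le ⟨_, rfl⟩⟩
    have hcon : Models.IsContractionOf ι' c := ⟨hNZ, hcP, y, hy, hrc, hyreg, hyd, hbl⟩
    have hxi : Set.range (ι' ≫ b) = {x} := by
      rw [← hx, show Set.range (ι' ≫ b) = b '' Set.range ι' by rw [← Set.range_comp]; rfl,
        show Set.range (ΓF.ι ≫ b) = b '' Set.range ΓF.ι.base by rw [← Set.range_comp]; rfl, hΓF]
    obtain ⟨b', hb', -⟩ := Contraction7.factor c hF' hcon b x hxi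
    have hbp : b' ≫ X.h = r' ≫ N.h := by
      have hxp : Set.range (ι' ≫ M.h) = {X.h x} := by
        rw [← hb, show Set.range (ι' ≫ b ≫ X.h) = X.h '' Set.range (ι' ≫ b) by rw [← Set.range_comp]; rfl, hxi,
          Set.image_singleton]
      obtain ⟨ψ, -, hu⟩ := Contraction7.factor c hF' hcon M.h (X.h x) hxp
      rw [hu (b' ≫ X.h) (show c ≫ b' ≫ X.h = M.h by rw [reassoc_of% hb', hb]), hu (r' ≫ N.h) hp]
    exact ih N rfl M' rfl (by simp [M', RS.ofSeq]) b' hbp

/-- The universal property of a desingularization without contracted exceptional curves. -/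
theorem existsUnique_hom (X N : RS Y)
    (hexc : ∀ {E : Scheme.{u}} (ι : E ⟶ X.Z) [IsClosedImmersion ι], Models.IsExcCurve ι →
      ¬ ∃ y : Y, Set.range (ι ≫ X.h) = {y}) :
    ∃! b : N.Z ⟶ X.Z, b ≫ X.h = N.h := by
  haveI := N.int
  haveI := N.noeth
  haveI := N.prop
  haveI := X.int
  haveI := X.prop
  obtain ⟨U, hU, hUi⟩ := X.exists_open s hn hdimY
  haveI := hUi
  let W : N.Z.Opens := N.h ⁻¹ᵁ U
  have hgW : genericPoint N.Z ∈ W := by
    show N.h (genericPoint N.Z) ∈ U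
    rw [SurfSeq.map_generic N.h N.bir]
    exact ((genericPoint_spec Y).mem_open_set_iff U.2).2 (by simpa using hU)
  let φ : (W : Scheme.{u}) ⟶ X.Z := (N.h ∣_ U) ≫ inv (X.h ∣_ U) ≫ (X.h ⁻¹ᵁ U).ι
  have hφ : φ ≫ X.h = W.ι ≫ N.h := by
    simp only [φ, Category.assoc]
    rw [← morphismRestrict_ι, IsIso.inv_hom_id_assoc, morphismRestrict_ι]
  have huniq : ∀ b : N.Z ⟶ X.Z, b ≫ X.h = N.h → W.ι ≫ b = φ := fun b hb => by
    have hr : Set.range (W.ι ≫ b) ⊆ Set.range (X.h ⁻¹ᵁ U).ι := by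
      rintro _ ⟨w, rfl⟩
      rw [Scheme.Opens.range_ι]
      show X.h ((W.ι ≫ b) w) ∈ U
      rw [← Scheme.Hom.comp_apply, Category.assoc, hb]
      exact w.2
    rw [← IsOpenImmersion.lift_fac (X.h ⁻¹ᵁ U).ι (W.ι ≫ b) hr]
    simp only [φ, ← Category.assoc]
    congr 1
    rw [IsIso.eq_comp_inv, ← cancel_mono U.ι, Category.assoc, morphismRestrict_ι, IsOpenImmersion.lift_fac_assoc,
      Category.assoc, hb, morphismRestrict_ι]
  obtain ⟨N', r, b₀, hr, hb₀, -⟩ := exists_extension N.reg N.dim N.h X.h W ⟨_, hgW⟩ φ hφ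
  obtain ⟨b, hb⟩ := descend s hn hdimY hexc hr N rfl (N.ofSeq r hr) rfl (by simp [RS.ofSeq]) b₀ hb₀
  refine ⟨b, hb, fun b' hb' => ?_⟩
  haveI : Nonempty (W : Scheme.{u}) := ⟨⟨_, hgW⟩⟩
  haveI : IsDominant W.ι := ⟨by
    rw [DenseRange, Scheme.Opens.range_ι]
    exact W.isOpen.dense ⟨_, hgW⟩⟩
  exact ext_of_isDominant_of_isSeparated X.h (hb'.trans hb.symm) W.ι ((huniq b' hb').trans (huniq b hb).symm)

end Groth.Agent.MinDesing
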