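import Mathlib
import Groth.Agent.BlowP1.Line
import Groth.Agent.QCoh.ProperOver
import Groth.Agent.S1297
import Groth.Agent.BlowUpLib.Glue

/-!
# Finite type descends along a blow-up
-/

set_option autoImplicit false
set_option linter.style.haveILetI false
set_option linter.unusedSectionVars false
set_option backward.isDefEq.respectTransparency false
set_option backward.isDefEq.respectTransparency.types false
set_option maxHeartbeats 800000

universe u

open CategoryTheory CategoryTheory.Limits AlgebraicGeometry TopologicalSpace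

noncomputable section

namespace Groth.Agent.MinModel

open BlowUpLib RegBlow6 BlowP1 Groth.Agent.InvX Groth.Agent.H23

/-- A morphism to an affine Noetherian scheme is of finite type if it is so after a blow-up. -/
theorem locallyOfFiniteType_of_blowUp {R : Type u} [CommRing R] [IsNoetherianRing R] {X X' : Scheme.{u}}
    [IsReduced X'] [IsLocallyNoetherian X'] (b : X ⟶ X') [Surjective b] [IsProper b]
    {I : X'.IdealSheafData} (hb : BlowUp.IsBlowUp b I) (q : X' ⟶ Spec (CommRingCat.of R))
    [LocallyOfFiniteType (b ≫ q)] : LocallyOfFiniteType q := by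
  classical
  refine (HasRingHomProperty.iff_appLE (P := @LocallyOfFiniteType)).2 fun V U hVU => ?_
  let A := Γ(X', U.1)
  haveI : IsNoetherianRing A := IsLocallyNoetherian.component_noetherian U
  let φ : R →+* A := strHom q U.1
  suffices hφ : φ.FiniteType by
    refine RingHom.FiniteType.of_comp_finiteType
      (f := (Spec (CommRingCat.of R)).presheaf.map (homOfLE (le_top : V.1 ≤ ⊤)).op |>.hom) ?_
    rw [← CommRingCat.hom_comp, Scheme.Hom.map_appLE]
    have e : (q.appLE ⊤ U.1 le_top).hom =
        φ.comp (Scheme.ΓSpecIso (CommRingCat.of R)).hom.hom := by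
      refine RingHom.ext fun x => ?_
      show _ = (q.appLE ⊤ U.1 le_top).hom ((Scheme.ΓSpecIso (CommRingCat.of R)).inv.hom _)
      rw [← ConcreteCategory.comp_apply (Scheme.ΓSpecIso (CommRingCat.of R)).hom, Iso.hom_inv_id]
      rfl
    refine e ▸ hφ.comp (RingHom.FiniteType.of_surjective _ ?_)
    exact (Scheme.ΓSpecIso (CommRingCat.of R)).commRingCatIsoToRingEquiv.surjective
  let j := U.2.fromSpec
  let Y := pullback b j
  let bU : Y ⟶ Spec (CommRingCat.of A) := pullback.snd b j
  have hbU : BlowUp.IsBlowUp bU (centre (I.ideal U)) := by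
    have h := isBlowUp_of_isPullback (IsPullback.of_hasPullback b j).flip hb
    rwa [comap_fromSpec] at h
  obtain ⟨G, hG⟩ := IsNoetherian.noetherian (I.ideal U)
  let a : Fin (G.card + 1) → A := Fin.cons 0 fun i => (G.equivFin.symm i : A)
  have hI : cI a = I.ideal U := by
    show Ideal.span (Set.range (Fin.cons 0 _)) = _
    rw [Fin.range_cons, Ideal.span_insert_zero,
      show (Set.range fun i => (G.equivFin.symm i : A)) = (G : Set A) from ?_]
    · exact hG
    · ext x
      exact ⟨fun ⟨i, hi⟩ => hi ▸ (G.equivFin.symm i).2, fun hx => ⟨G.equivFin ⟨x, hx⟩, by simp⟩⟩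
  rw [← hI] at hbU
  obtain ⟨e, he, s, -, hcov, haff, hgen⟩ := exists_data bU a hbU
  let L := ClSub.idealMod ((centre (cI a)).comap bU)
  have hL : PicF.IsInvertible L := (S8914.result _).2 hbU.1
  let W := fun k => TrivBasic.locus (s k)
  letI : Algebra R A := φ.toAlgebra
  let qR : Y ⟶ Spec (CommRingCat.of R) := bU ≫ Spec.map (CommRingCat.ofHom φ)
  haveI : LocallyOfFiniteType qR := by
    have e : qR = pullback.fst b j ≫ b ≫ q := by
      show pullback.snd b j ≫ Spec.map (CommRingCat.ofHom (strHom q U.1)) = _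
      rw [SpecMap_strHom, pullback.condition_assoc]
    rw [e]
    infer_instance
  have hqR : ∀ (k : Fin (G.card + 1)) (r : R), strHom qR (W k) r = strHom bU (W k) (φ r) := fun k r =>
    strHom_comp_specMap bU φ (W k) r
  have hft : ∀ k, (strHom qR (W k)).FiniteType := fun k =>
    (qR.finiteType_appLE (isAffineOpen_top _) (haff k) le_top).comp
      (RingHom.FiniteType.of_surjective _
        (Scheme.ΓSpecIso (CommRingCat.of R)).symm.commRingCatIsoToRingEquiv.surjective)
  -- the coefficients of finitely many generators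
  let cond : (k : Fin (G.card + 1)) → Subring Γ(Y, W k) → Prop := fun k T =>
    ∀ l z, AModX.res L (le_top : W k ≤ ⊤) (s l) = z • AModX.res L (le_top : W k ≤ ⊤) (s k) → z ∈ T
  let good : ∀ k, Γ(Y, W k) → Prop := fun k z => ∃ C : Finset A, ∀ T : Subring Γ(Y, W k),
    (∀ c ∈ Algebra.adjoin R (C : Set A), strHom bU (W k) c ∈ T) → cond k T → z ∈ T
  have hgood : ∀ k z, good k z := fun k => by
    let S : Subring Γ(Y, W k) :=
      { carrier := {z | good k z}
        one_mem' := ⟨∅, fun T _ _ => T.one_mem⟩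
        zero_mem' := ⟨∅, fun T _ _ => T.zero_mem⟩
        neg_mem' := fun ⟨C, hC⟩ => ⟨C, fun T h1 h2 => T.neg_mem (hC T h1 h2)⟩
        add_mem' := fun ⟨C, hC⟩ ⟨C', hC'⟩ => ⟨C ∪ C', fun T h1 h2 => T.add_mem
          (hC T (fun c hc => h1 c (Algebra.adjoin_mono (by simp) hc)) h2)
          (hC' T (fun c hc => h1 c (Algebra.adjoin_mono (by simp) hc)) h2)⟩
        mul_mem' := fun ⟨C, hC⟩ ⟨C', hC'⟩ => ⟨C ∪ C', fun T h1 h2 => T.mul_mem
          (hC T (fun c hc => h1 c (Algebra.adjoin_mono (by simp) hc)) h2)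
          (hC' T (fun c hc => h1 c (Algebra.adjoin_mono (by simp) hc)) h2)⟩ }
    have hS : S = ⊤ := hgen k S
      (fun c => ⟨{c}, fun T h1 _ => h1 c (Algebra.subset_adjoin (by simp))⟩)
      fun l z hz => ⟨∅, fun T _ h2 => h2 l z hz⟩
    exact fun z => (show z ∈ S from hS ▸ Subring.mem_top z)
  choose C hC using fun k (z : Γ(Y, W k)) => hgood k z
  have hgens : ∀ k, ∃ F : Finset Γ(Y, W k), ∀ T : Subring Γ(Y, W k),
      (∀ r, strHom qR (W k) r ∈ T) → (∀ z ∈ F, z ∈ T) → T = ⊤ := fun k => by
    letI := (strHom qR (W k)).toAlgebra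
    obtain ⟨F, hF⟩ := (hft k : Algebra.FiniteType R Γ(Y, W k)).out
    refine ⟨F, fun T h1 h2 => top_le_iff.1 fun z _ => ?_⟩
    have h3 : Algebra.adjoin R (F : Set Γ(Y, W k)) ≤ { T with algebraMap_mem' := h1 } :=
      Algebra.adjoin_le fun z hz => h2 z hz
    exact h3 (hF ▸ Algebra.mem_top)
  choose F hF using hgens
  let A₀ := Algebra.adjoin R
    ((Finset.univ.biUnion fun k => (F k).biUnion fun z => C k z : Finset A) : Set A)
  haveI : Algebra.FiniteType R A₀ := A₀.fg_iff_finiteType.1 (Subalgebra.fg_adjoin_finset _)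
  haveI : IsNoetherianRing A₀ := Algebra.FiniteType.isNoetherianRing R A₀
  let ψ : A₀ →+* A := A₀.val.toRingHom
  let q₀ : Y ⟶ Spec (CommRingCat.of A₀) := bU ≫ Spec.map (CommRingCat.ofHom ψ)
  have hq₀ : ∀ k c, strHom q₀ (W k) c = strHom bU (W k) (ψ c) := fun k c => strHom_comp_specMap bU ψ (W k) c
  obtain ⟨r, hr, hrq, -⟩ := exists_closedImmersion_of_sections q₀ hL G.card s hcov haff fun k T h1 h2 => by
    refine hF k T (fun r => ?_) fun z hz => hC k z T (fun c hc => ?_) h2
    · rw [hqR k r, show φ r = ψ (algebraMap R A₀ r) from rfl, ← hq₀]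
      exact h1 _
    · have hcA : c ∈ A₀ := Algebra.adjoin_mono (fun x hx => by
        simp only [Finset.coe_biUnion, Set.mem_iUnion]
        exact ⟨k, Finset.mem_coe.2 (Finset.mem_univ k), z, hz, hx⟩) hc
      rw [show strHom bU (W k) c = strHom q₀ (W k) ⟨c, hcA⟩ from (hq₀ k ⟨c, hcA⟩).symm]
      exact h1 _
  haveI : IsProper (CohB1.ProjSpace.toSpec G.card A₀) := PnCoh.Chow.isProper_toSpec G.card _
  haveI := hr
  haveI : IsProper q₀ := hrq ▸ inferInstance
  -- the ring is a submodule of the global functions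
  haveI : IsReduced (Spec (CommRingCat.of A)) := isReduced_of_isOpenImmersion j
  haveI : Surjective bU := inferInstanceAs (Surjective (pullback.snd b j))
  haveI : IsDominant bU := inferInstance
  let σ : A →+* Γ(Y, ⊤) := ((Scheme.ΓSpecIso (CommRingCat.of A)).inv ≫ bU.appTop).hom
  have hσi : Function.Injective σ :=
    (PnCoh.Chow.app_injective_of_isDominant bU ⊤).comp
      (Scheme.ΓSpecIso (CommRingCat.of A)).symm.commRingCatIsoToRingEquiv.injective
  have hσψ : (σ.comp ψ).Finite := by
    have h1 := (S1297.finite_appTop q₀).comp (RingHom.Finite.of_surjective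
      (Scheme.ΓSpecIso (CommRingCat.of A₀)).inv.hom
      (Scheme.ΓSpecIso (CommRingCat.of A₀)).symm.commRingCatIsoToRingEquiv.surjective)
    have e2 : σ.comp ψ = q₀.appTop.hom.comp (Scheme.ΓSpecIso (CommRingCat.of A₀)).inv.hom := by
      show (CommRingCat.ofHom ψ ≫ (Scheme.ΓSpecIso (CommRingCat.of A)).inv ≫ bU.appTop).hom =
        ((Scheme.ΓSpecIso (CommRingCat.of A₀)).inv ≫ q₀.appTop).hom
      rw [Scheme.ΓSpecIso_inv_naturality_assoc, show q₀.appTop =
        (Spec.map (CommRingCat.ofHom ψ)).appTop ≫ bU.appTop from Scheme.Hom.comp_appTop _ _]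
    rwa [e2]
  letI : Algebra A₀ Γ(Y, ⊤) := (σ.comp ψ).toAlgebra
  haveI : Module.Finite A₀ Γ(Y, ⊤) := hσψ
  haveI : IsNoetherian A₀ Γ(Y, ⊤) := isNoetherian_of_isNoetherianRing_of_finite A₀ _
  let σl : A →ₗ[A₀] Γ(Y, ⊤) :=
    { toFun := σ, map_add' := map_add σ, map_smul' := fun c x => map_mul σ (ψ c) x }
  haveI : Module.Finite A₀ A := Module.Finite.of_injective σl hσi
  exact (Algebra.FiniteType.trans (S := A₀) inferInstance inferInstance : Algebra.FiniteType R A)

/-- A morphism to an affine Noetherian scheme is proper if it is so after a blow-up. -/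
theorem isProper_of_blowUp {R : Type u} [CommRing R] [IsNoetherianRing R] {X X' : Scheme.{u}}
    [IsReduced X'] [IsLocallyNoetherian X'] (b : X ⟶ X') [Surjective b] [IsProper b]
    {I : X'.IdealSheafData} (hb : BlowUp.IsBlowUp b I) (q : X' ⟶ Spec (CommRingCat.of R))
    [IsProper (b ≫ q)] : IsProper q :=
  haveI := locallyOfFiniteType_of_blowUp b hb q
  QCoh.isProper_of_comp_surjective b q

end Groth.Agent.MinModel
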