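import Mathlib
import Groth.Agent.H26.FibreIdeal
import Groth.Agent.H23.StalkIdeal
import Groth.Agent.PointBlow.Basic

/-!
# An effective Cartier ideal supported on the closed fibre is a product of the components
-/

set_option autoImplicit false
set_option linter.style.haveILetI false
set_option linter.unusedSectionVars false
set_option backward.isDefEq.respectTransparency false
set_option backward.isDefEq.respectTransparency.types false
set_option maxHeartbeats 800000

universe u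

open CategoryTheory CategoryTheory.Limits AlgebraicGeometry TopologicalSpace
open Groth.Agent.H23.StalkIdeal
open Groth.Agent.PointBlow (mem_support_iff)

noncomputable section

namespace Groth.Agent.MinModel

open H26

variable {R : Type u} [CommRing R] [IsDomain R] [IsDiscreteValuationRing R]
  (X : Over (Spec (CommRingCat.of R))) [Flat X.hom] [LocallyOfFiniteType X.hom]
  {n : ℕ} (Γc : Fin n → ArSurf.VertComp R X) (hΓ : Models.IsComponentList R X Γc)
  (hreg : ∀ x : X.left, IsRegularLocalRing (X.left.presheaf.stalk x))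

include hΓ hreg in
/-- The factorization of a Cartier ideal supported on the closed fibre. -/
theorem eq_prod_of_isEffCartier {J : X.left.IdealSheafData} (hJ : BlowUp.IsEffCartierIdeal J)
    (hs : (J.support : Set X.left) ⊆ Models.specialFibreSet R X) :
    J = ∏ i, (Γc i).ι.ker ^ (Module.length (X.left.presheaf.stalk (Models.genPtOf R X (Γc i)))
      (X.left.presheaf.stalk (Models.genPtOf R X (Γc i)) ⧸ sI J (Models.genPtOf R X (Γc i)))).toNat := by
  classical
  haveI : IsLocallyNoetherian X.left := LocallyOfFiniteType.isLocallyNoetherian X.hom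
  obtain ⟨ϖ, hirr⟩ := IsDiscreteValuationRing.exists_irreducible R
  have hϖ := hirr.maximalIdeal_eq
  let ξ := fun i => Models.genPtOf R X (Γc i)
  set e : Fin n → ℕ := fun i => (Module.length (X.left.presheaf.stalk (ξ i))
    (X.left.presheaf.stalk (ξ i) ⧸ sI J (ξ i))).toNat with hedef
  choose U hxU c hc hJU using hJ
  refine Scheme.IdealSheafData.ext_of_iSup_eq_top U
    (eq_top_iff.2 fun x _ => Opens.mem_iSup.2 ⟨x, hxU x⟩) fun x => ?_
  specialize hc x
  specialize hJU x
  set W := U x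
  haveI : IsNoetherianRing Γ(X.left, W.1) := IsLocallyNoetherian.component_noetherian W
  -- membership of points in the support
  have hsupp : ∀ z (hz : z ∈ W.1),
      z ∈ (J.support : Set X.left) ↔ c x ∈ (W.2.primeIdealOf ⟨z, hz⟩).asIdeal := fun z hz => by
    letI := TopCat.Presheaf.algebra_section_stalk X.left.presheaf (⟨z, hz⟩ : W.1)
    haveI := W.2.isLocalization_stalk ⟨z, hz⟩
    rw [mem_support_iff, sI_eq J W hz, CDivEq.stk, hJU, Ideal.map_span, Set.image_singleton, Ne,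
      Ideal.span_singleton_eq_top]
    exact (IsLocalization.AtPrime.isUnit_to_map_iff (X.left.presheaf.stalk z) _ _).not.trans not_not
  have hzero : ∀ i, ξ i ∉ (J.support : Set X.left) → e i = 0 := fun i hi => by
    haveI : Subsingleton (X.left.presheaf.stalk (ξ i) ⧸ sI J (ξ i)) :=
      Ideal.Quotient.subsingleton_iff.2 (PointBlow.sI_eq_top hi)
    show ENat.toNat _ = 0
    rw [Module.length_eq_zero]
    rfl
  let ι := {i : Fin n // ξ i ∈ W.1 ∧ ξ i ∈ (J.support : Set X.left)}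
  let F : X.left.IdealSheafData →* Ideal Γ(X.left, W.1) :=
    { toFun := fun I => I.ideal W, map_one' := by simp, map_mul' := fun I J => rfl }
  have hprod : F (∏ i, (Γc i).ι.ker ^ e i) = ∏ i : ι, (Γc i.1).ι.ker.ideal W ^ e i.1 := by
    rw [map_prod]
    simp only [map_pow]
    rw [← Fintype.prod_subtype_mul_prod_subtype (fun i => ξ i ∈ W.1 ∧ ξ i ∈ (J.support : Set X.left))
      (fun i => F (Γc i).ι.ker ^ e i)]
    have hrest : ∀ i : {i : Fin n // ¬ (ξ i ∈ W.1 ∧ ξ i ∈ (J.support : Set X.left))},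
        F (Γc i.1).ι.ker ^ e i.1 = 1 := by
      rintro ⟨i, hi⟩
      rcases FibreIdeal.ker_ideal_cases (Γc i).ι W with ⟨-, h⟩ | ⟨h, -⟩
      · rw [show F (Γc i).ι.ker = 1 from h.trans Ideal.one_eq_top.symm, one_pow]
      · rw [hzero i fun h' => hi ⟨h, h'⟩, pow_zero]
    rw [Finset.prod_eq_one fun i _ => hrest i, mul_one]
    rfl
  show F J = _
  refine Eq.trans ?_ hprod.symm
  show J.ideal W = _
  rw [hJU]
  have hP : ∀ i : ι, (Γc i.1).ι.ker.ideal W = (W.2.primeIdealOf ⟨ξ i.1, i.2.1⟩).asIdeal := fun i => by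
    rcases FibreIdeal.ker_ideal_cases (Γc i.1).ι W with ⟨h, -⟩ | ⟨h, e'⟩
    · exact absurd i.2.1 h
    · exact e'
  -- containment of primes as specialization
  have hspec : ∀ z w (hz : z ∈ W.1) (hw : w ∈ W.1),
      (W.2.primeIdealOf ⟨z, hz⟩).asIdeal ≤ (W.2.primeIdealOf ⟨w, hw⟩).asIdeal → z ⤳ w := fun z w hz hw h => by
    have h2 := ((PrimeSpectrum.le_iff_specializes _ _).1 h).map W.2.fromSpec.continuous
    rwa [W.2.fromSpec_primeIdealOf, W.2.fromSpec_primeIdealOf] at h2
  have hpt : ∀ Q : Ideal Γ(X.left, W.1), Q.IsPrime →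
      ∃ z, ∃ hz : z ∈ W.1, (W.2.primeIdealOf ⟨z, hz⟩).asIdeal = Q := fun Q hQ => by
    have hqU : W.2.fromSpec ⟨Q, hQ⟩ ∈ W.1 := W.2.range_fromSpec.le ⟨⟨Q, hQ⟩, rfl⟩
    exact ⟨_, hqU, congrArg PrimeSpectrum.asIdeal
      (W.2.fromSpec.isOpenEmbedding.injective (W.2.fromSpec_primeIdealOf ⟨_, hqU⟩))⟩
  have hmin : ∀ i : ι, (Γc i.1).ι.ker.ideal W ∈ (Ideal.span {c x}).minimalPrimes := fun i => by
    rw [hP i]
    refine ⟨⟨inferInstance, (Ideal.span_singleton_le_iff_mem _).2 ((hsupp _ i.2.1).1 i.2.2)⟩,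
      fun Q ⟨hQ, hcQ⟩ hle => ?_⟩
    obtain ⟨z, hz, rfl⟩ := hpt Q hQ
    obtain rfl : z = ξ i.1 := FibreIdeal.genPt_maximal X Γc hΓ i.1 (hspec _ _ hz i.2.1 hle)
      (hs ((hsupp z hz).2 (hcQ (Ideal.mem_span_singleton_self _))))
    exact le_rfl
  refine IdealFactor.span_eq_prod (fun m _ => ?_) _ hc (fun i : ι => (Γc i.1).ι.ker.ideal W)
    (fun i => Or.inr (hmin i)) (fun i j hij _ => ?_) (fun Q hQ => ?_) _ fun i _ => ?_
  · obtain ⟨z, hz, hzm⟩ := hpt m inferInstance
    letI := TopCat.Presheaf.algebra_section_stalk X.left.presheaf (⟨z, hz⟩ : W.1)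
    haveI : IsLocalization.AtPrime (X.left.presheaf.stalk z) m := by
      have := W.2.isLocalization_stalk ⟨z, hz⟩
      simp only [hzm] at this
      exact this
    let e := (IsLocalization.algEquiv m.primeCompl (X.left.presheaf.stalk z) (Localization.AtPrime m)).toRingEquiv
    haveI := hreg z
    obtain ⟨hd, hu⟩ := RegUFD.ufd (X.left.presheaf.stalk z)
    exact ⟨e.symm.toMulEquiv.isDomain _, e.toMulEquiv.uniqueFactorizationMonoid hu⟩
  · have h1 : W.2.primeIdealOf ⟨ξ i.1, i.2.1⟩ = W.2.primeIdealOf ⟨ξ j.1, j.2.1⟩ :=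
      PrimeSpectrum.ext ((hP i).symm.trans (hij.trans (hP j)))
    have h2 := congrArg W.2.fromSpec h1
    rw [W.2.fromSpec_primeIdealOf, W.2.fromSpec_primeIdealOf] at h2
    exact Subtype.ext (FibreIdeal.genPt_injective X Γc hΓ h2)
  · obtain ⟨z, hz, rfl⟩ := hpt Q hQ.1.1
    have hcz : c x ∈ (W.2.primeIdealOf ⟨z, hz⟩).asIdeal := hQ.1.2 (Ideal.mem_span_singleton_self _)
    have hzJ := (hsupp z hz).2 hcz
    obtain ⟨i, hi⟩ := FibreIdeal.exists_component_of_maximal X Γc hΓ (hs hzJ) fun w hwz hws => by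
      by_contra hne
      have hwU : w ∈ W.1 := hwz.mem_open W.1.2 hz
      have hle : (W.2.primeIdealOf ⟨w, hwU⟩).asIdeal ≤ (W.2.primeIdealOf ⟨z, hz⟩).asIdeal := by
        refine (PrimeSpectrum.le_iff_specializes _ _).2 (W.2.fromSpec.isOpenEmbedding.isInducing.specializes_iff.1 ?_)
        exact (W.2.fromSpec_primeIdealOf ⟨w, hwU⟩).symm ▸ (W.2.fromSpec_primeIdealOf ⟨z, hz⟩).symm ▸ hwz
      have hlt : (W.2.primeIdealOf ⟨w, hwU⟩).asIdeal < (W.2.primeIdealOf ⟨z, hz⟩).asIdeal :=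
        lt_of_le_of_ne hle fun heq => hne ((hwz.antisymm (hspec _ _ hz hwU heq.ge)).eq)
      have h1 := Ideal.height_le_one_of_isPrincipal_of_mem_minimalPrimes _ _ hQ
      have h2 := Ideal.height_strict_mono_of_isPrime hlt
      have h0 : (W.2.primeIdealOf ⟨w, hwU⟩).asIdeal.height = 0 := ENat.lt_one_iff_eq_zero.1 (h2.trans_le h1)
      rw [Ideal.height_eq_zero_iff] at h0
      exact notMem_nonZeroDivisors_of_mem_mem_minimalPrimes
        ((FibreIdeal.mem_fibre_iff X hϖ W.2 w hwU).1 hws) h0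
        (FibreIdeal.unifOn_mem_nonZeroDivisors X hirr.ne_zero W.2)
    change ξ i = z at hi
    subst hi
    exact ⟨⟨i, hz, hzJ⟩, hP ⟨i, hz, hzJ⟩⟩
  · letI := TopCat.Presheaf.algebra_section_stalk X.left.presheaf (⟨ξ i.1, i.2.1⟩ : W.1)
    haveI := W.2.isLocalization_stalk ⟨ξ i.1, i.2.1⟩
    refine ⟨X.left.presheaf.stalk (ξ i.1), inferInstance, inferInstance, ?_, ?_⟩
    · simp only [hP i]; exact W.2.isLocalization_stalk ⟨ξ i.1, i.2.1⟩
    have e2 : sI J (ξ i.1) = Ideal.span {algebraMap Γ(X.left, W.1) (X.left.presheaf.stalk (ξ i.1)) (c x)} := by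
      rw [sI_eq J W i.2.1, CDivEq.stk, hJU, Ideal.map_span, Set.image_singleton]
      rfl
    show _ = ((Module.length _ _).toNat : ℕ∞)
    rw [FibreIdeal.length_congr e2, ENat.natCast_toNat]
    haveI : IsDomain (X.left.presheaf.stalk (ξ i.1)) := (@RegUFD.ufd _ _ (hreg _)).1
    have hmin' := hmin i
    rw [hP i] at hmin'
    haveI : Ring.KrullDimLE 1 (X.left.presheaf.stalk (ξ i.1)) := Ring.krullDimLE_iff.2 (by
      rw [IsLocalization.AtPrime.ringKrullDim_eq_height (W.2.primeIdealOf ⟨ξ i.1, i.2.1⟩).asIdeal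
        (X.left.presheaf.stalk (ξ i.1))]
      exact_mod_cast Ideal.height_le_one_of_isPrincipal_of_mem_minimalPrimes _ _ hmin')
    refine Module.length_ne_top_iff.2 (isFiniteLength_quotient_span_singleton _ ?_)
    refine mem_nonZeroDivisors_of_ne_zero fun h0 => ?_
    obtain ⟨d, hd⟩ :=
      (IsLocalization.map_eq_zero_iff (W.2.primeIdealOf ⟨ξ i.1, i.2.1⟩).asIdeal.primeCompl _ _).1 h0
    exact d.2 ((mem_nonZeroDivisors_iff_right.1 hc _ hd).symm ▸ Ideal.zero_mem _)

end Groth.Agent.MinModel
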