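import Mathlib
import Groth.Agent.MinModel.Exc
import Groth.Agent.MinModel.Extend

/-!
# The mapping property of minimal models
-/

set_option autoImplicit false
set_option linter.style.haveILetI false
set_option linter.unusedSectionVars false
set_option backward.isDefEq.respectTransparency false
set_option backward.isDefEq.respectTransparency.types false
set_option maxHeartbeats 800000

universe u

open CategoryTheory CategoryTheory.Limits AlgebraicGeometry TopologicalSpace IsLocalRing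

noncomputable section

namespace Groth.Agent.MinModel

variable {R : Type u} [CommRing R] [IsDomain R] [IsDiscreteValuationRing R]
  {C : Scheme.{u}} {f : C ⟶ Spec (CommRingCat.of (FractionRing R))} [IsIntegral C]

/-- Point blow-ups of a regular proper model are regular proper models. -/
theorem Model.exists_lift (N : Model C f) {Z : Scheme.{u}} [IsIntegral Z] (c : Z ⟶ N.Z) [IsProper c]
    (hreg : ∀ z : Z, IsRegularLocalRing (Z.presheaf.stalk z)) (y : N.Z) (hy : IsClosed ({y} : Set N.Z))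
    (hoff : IsIso (c ∣_ (⟨{y}ᶜ, hy.isOpen_compl⟩ : N.Z.Opens))) :
    ∃ M : Model C f, ∃ e : M.Z = Z, (eqToHom e ≫ c) ≫ N.p = M.p ∧ M.g ≫ eqToHom e ≫ c = N.g := by
  haveI := N.isProper
  haveI := N.isOpenImmersion
  haveI := hoff
  set V : N.Z.Opens := ⟨{y}ᶜ, hy.isOpen_compl⟩
  have hys : N.p y = IsLocalRing.closedPoint R := by
    have h := N.p.isClosedMap _ hy
    rw [Set.image_singleton] at h
    exact (Set.mem_singleton_iff.1 ((IsLocalRing.specializes_closedPoint (N.p y)).mem_closed h rfl)).symm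
  have hne : ∀ z : N.Z, N.p z = genericPoint (Spec (CommRingCat.of R)) → z ∈ V := fun z hz h => by
    rw [show z = y from h, hys] at hz
    exact H26.HorizDeg.generic_ne_closed hz.symm
  have hr : Set.range N.g ⊆ Set.range V.ι := by
    rw [Scheme.Opens.range_ι]
    rintro _ ⟨a, rfl⟩
    exact hne _ (N.mem_range.1 ⟨a, rfl⟩)
  haveI : IsOpenImmersion (IsOpenImmersion.lift V.ι N.g hr ≫ V.ι) := by
    rw [IsOpenImmersion.lift_fac]; infer_instance
  haveI : IsOpenImmersion (IsOpenImmersion.lift V.ι N.g hr) := IsOpenImmersion.of_comp _ V.ι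
  let g : C ⟶ Z := IsOpenImmersion.lift V.ι N.g hr ≫ inv (c ∣_ V) ≫ (c ⁻¹ᵁ V).ι
  haveI : IsOpenImmersion g := inferInstance
  have hgc : g ≫ c = N.g := by
    simp only [g, Category.assoc]
    rw [← morphismRestrict_ι, IsIso.inv_hom_id_assoc, IsOpenImmersion.lift_fac]
  haveI := isOpenImmersion_jη R
  have hw : g ≫ c ≫ N.p = f ≫ jη R := by rw [reassoc_of% hgc]; exact N.sq.w
  have hsq : IsPullback g f (c ≫ N.p) (jη R) := by
    refine (IsOpenImmersion.isPullback f g (jη R) (c ≫ N.p) hw ?_).flip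
    refine Opens.ext (Set.ext fun w => ⟨fun hw' => ?_, ?_⟩)
    · have hw'' : N.p (c w) = genericPoint _ := (range_jη R).le (by simpa using hw')
      obtain ⟨a, ha⟩ := N.mem_range.2 hw''
      refine ⟨a, ?_⟩
      have hga : c (g a) = c w := by rw [← Scheme.Hom.comp_apply, hgc, ha]
      have e1 : (c ∣_ V) ⟨g a, show c (g a) ∈ V by rw [hga]; exact hne _ hw''⟩ = (c ∣_ V) ⟨w, hne _ hw''⟩ :=
        Subtype.ext (by rw [morphismRestrict_base_coe, morphismRestrict_base_coe]; exact hga)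
      exact congrArg Subtype.val ((c ∣_ V).homeomorph.injective e1)
    · rintro ⟨a, rfl⟩
      exact ⟨f a, by rw [← Scheme.Hom.comp_apply, ← hw, Scheme.Hom.comp_apply, Scheme.Hom.comp_apply]⟩
  have hflat : Flat (c ≫ N.p) := by
    refine DescLib.flat_of_dominant_integral (c ≫ N.p) ?_
    have h1 : (c ≫ N.p) (g (genericPoint C)) = genericPoint (Spec (CommRingCat.of R)) := by
      rw [← Scheme.Hom.comp_apply, hw, Scheme.Hom.comp_apply]
      exact H26.HorizDeg.range_specMap_fraction _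
    have h2 : g (genericPoint C) = genericPoint Z := genericPoint_eq_of_isOpenImmersion g
    rw [← h2, h1, genericPoint_eq_bot_of_affine (CommRingCat.of R)]
    rfl
  exact ⟨⟨Z, c ≫ N.p, g, hsq, ⟨hflat, inferInstance, inferInstance, _, hsq⟩, inferInstance, hreg⟩, rfl,
    by simp, by simp [hgc]⟩

/-- The source of a sequence of contractions to a model is a model. -/
theorem Model.exists_model_of_seq {Z X : Scheme.{u}} {r : Z ⟶ X} (hr : Models.IsContractionSeq r) :
    ∀ (N : Model C f) (e : X = N.Z), ∃ M : Model C f, ∃ e' : M.Z = Z,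
      eqToHom e' ≫ r ≫ eqToHom e ≫ N.p = M.p ∧ M.g ≫ eqToHom e' ≫ r ≫ eqToHom e = N.g := by
  induction hr with
  | @iso Z X e₀ =>
    intro N e
    subst e
    haveI := N.isIntegral
    haveI := N.isProper
    haveI : Nonempty Z := ⟨e₀.inv (genericPoint N.Z)⟩
    haveI : IsIntegral Z := isIntegral_of_isOpenImmersion e₀.hom
    have hreg : ∀ z : Z, IsRegularLocalRing (Z.presheaf.stalk z) := fun z => by
      haveI := N.regular (e₀.hom z)
      exact IsRegularLocalRing.of_ringEquiv (asIso (e₀.hom.stalkMap z)).commRingCatIsoToRingEquiv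
    have hw : (N.g ≫ e₀.inv) ≫ e₀.hom ≫ N.p = f ≫ jη R := by simpa using N.sq.w
    have hsq : IsPullback (N.g ≫ e₀.inv) f (e₀.hom ≫ N.p) (jη R) :=
      N.sq.of_iso (Iso.refl _) e₀.symm (Iso.refl _) (Iso.refl _) (by simp) (by simp) (by simp) (by simp)
    haveI : Flat N.p := N.flat
    exact ⟨⟨Z, e₀.hom ≫ N.p, N.g ≫ e₀.inv, hsq, ⟨inferInstance, inferInstance, inferInstance, _, hsq⟩,
      inferInstance, hreg⟩, rfl, by simp, by simp⟩
  | @step Z Z' X F ι c r' hι hF hc hr' ih =>
    intro N e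
    obtain ⟨⟨Z'', p', g', sq', hm'⟩, e', h1, h2⟩ := ih N e
    change Z'' = Z' at e'
    subst e'
    subst e
    simp only [eqToHom_refl, Category.id_comp, Category.comp_id] at h1 h2 ⊢
    let M' : Model C f := ⟨Z'', p', g', sq', hm'⟩
    haveI := N.isIntegral
    haveI := N.isNoetherian
    obtain ⟨hint, -, hreg, -, -, -⟩ := Sol.of_seq (Models.IsContractionSeq.step ι c r' hι hF hc hr') N.regular
    haveI := hint
    haveI : IsLocallyNoetherian Z'' := M'.isNoetherian.toIsLocallyNoetherian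
    obtain ⟨hNZ, hcP, y, hy, -, hyreg, hyd, hbl⟩ := id hc
    haveI := hcP
    obtain ⟨⟨Zm, pm, gm, sqm, hmm⟩, em, h3, h4⟩ := M'.exists_lift c hreg y hy (PointBlow.isIso_off hy hbl)
    change Zm = Z at em
    subst em
    simp only [eqToHom_refl, Category.id_comp, M'] at h3 h4
    refine ⟨⟨_, pm, gm, sqm, hmm⟩, rfl, ?_, ?_⟩
    · simp only [eqToHom_refl, Category.id_comp, Category.assoc]
      rw [h1]
      exact h3
    · simp only [eqToHom_refl, Category.id_comp]
      rw [← Category.assoc, h4]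
      exact h2

variable [IsProper f] (hdim : topologicalKrullDim C = 1)
include hdim

section Disjoint

variable (hd : DisjointExc (R := R) C f)
include hd

/-- Morphisms to a minimal model descend along contractions. -/
theorem Model.descend {X : Model C f} (hmin : Models.IsMinimalModel R X.Z X.p C f)
    {Z Y' : Scheme.{u}} {r : Z ⟶ Y'} (hr : Models.IsContractionSeq r) :
    ∀ (Y : Model C f) (e : Y' = Y.Z) (M : Model C f) (e' : Z = M.Z),
      eqToHom e'.symm ≫ r ≫ eqToHom e ≫ Y.p = M.p → M.g ≫ eqToHom e'.symm ≫ r ≫ eqToHom e = Y.g →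
      ∀ b : M.Z ⟶ X.Z, b ≫ X.p = M.p → M.g ≫ b = X.g →
        ∃ b' : Y.Z ⟶ X.Z, b' ≫ X.p = Y.p ∧ Y.g ≫ b' = X.g := by
  induction hr with
  | @iso Z Y' e₀ =>
    intro Y e M e' hp hgr b hb hgb
    subst e e'
    simp only [eqToHom_refl, Category.id_comp, Category.comp_id] at hp hgr
    refine ⟨e₀.inv ≫ b, ?_, ?_⟩
    · rw [Category.assoc, hb, ← hp, Iso.inv_hom_id_assoc]
    · rw [← hgr, Category.assoc, Iso.hom_inv_id_assoc, hgb]
  | @step Z Z' Y' F ι c r' hι hF hc hr' ih =>
    intro Y e M e' hp hgr b hb hgb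
    subst e e'
    simp only [eqToHom_refl, Category.id_comp, Category.comp_id, Category.assoc] at hp hgr
    haveI := M.isIntegral
    haveI := Y.isIntegral
    haveI := Y.isNoetherian
    haveI := Y.isProper
    haveI := X.isProper
    obtain ⟨hint, -, hreg, -, hP', -⟩ := Sol.of_seq hr' Y.regular
    haveI := hint
    haveI := hP'
    obtain ⟨hNZ, hcP, y, hy, hrg, hyreg, hyd, hbl⟩ := id hc
    haveI := hNZ
    haveI := hcP
    haveI := hyreg
    obtain ⟨hsq, hm⟩ := M.exists_of_contraction c (r' ≫ Y.p) hp hreg y hy (PointBlow.isIso_off hy hbl)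
    let M' : Model C f := ⟨Z', r' ≫ Y.p, M.g ≫ c, hsq, hm⟩
    obtain ⟨F', ι', hι', hF'i, hF', hrange, -, eF, -⟩ := PointBlow.exists_exc hy hbl hyd
    haveI := hι'; haveI := hF'i
    have hyc : (r' ≫ Y.p) y = closedPoint R := by
      have h := (r' ≫ Y.p).isClosedMap _ hy
      rw [Set.image_singleton] at h
      exact (Set.mem_singleton_iff.1 ((IsLocalRing.specializes_closedPoint _).mem_closed h rfl)).symm
    obtain ⟨ΓF, hΓF, e', he'⟩ := exists_vertComp (X := Over.mk M.p) ι' _ eF fun a => by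
      show M.p (ι' a) = _
      rw [← hp, Scheme.Hom.comp_apply, show c (ι' a) = y from hrange.le ⟨a, rfl⟩]
      exact hyc
    have hΓFe : Models.IsExcCurve ΓF.ι :=
      H26.ExcTransport.isExcCurve_of_ker ι' ΓF.ι (SurfSeq.ker_eq_of_range ι' ΓF.ι hΓF.symm) hF'
    obtain ⟨x, hx⟩ := contracted hdim hd hmin M b hb hgb ΓF hΓFe
    have hrc : Set.range (ι' ≫ c) = {y} := by
      refine subset_antisymm ?_ ?_
      · rintro _ ⟨a, rfl⟩
        exact hrange.le ⟨a, rfl⟩
      · rintro _ rfl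
        exact ⟨genericPoint F', hrange.le ⟨_, rfl⟩⟩
    have hcon : Models.IsContractionOf ι' c := ⟨hNZ, hcP, y, hy, hrc, hyreg, hyd, hbl⟩
    have hxi : Set.range (ι' ≫ b) = {x} := by
      rw [← hx, show Set.range (ι' ≫ b) = b '' Set.range ι' by rw [← Set.range_comp]; rfl,
        show Set.range (ΓF.ι ≫ b) = b '' Set.range ΓF.ι.base by rw [← Set.range_comp]; rfl, hΓF]
      rfl
    obtain ⟨b', hb', -⟩ := Contraction7.factor c hF' hcon b x hxi
    have hbp : b' ≫ X.p = r' ≫ Y.p := by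
      have hxp : Set.range (ι' ≫ M.p) = {X.p x} := by
        rw [← hb, show Set.range (ι' ≫ b ≫ X.p) = X.p '' Set.range (ι' ≫ b) by rw [← Set.range_comp]; rfl, hxi,
          Set.image_singleton]
      obtain ⟨ψ, -, hu⟩ := Contraction7.factor c hF' hcon M.p (X.p x) hxp
      rw [hu (b' ≫ X.p) (show c ≫ b' ≫ X.p = M.p by rw [reassoc_of% hb', hb]), hu (r' ≫ Y.p) hp]
    exact ih Y rfl M' rfl (by simp [M']) (by simpa [M'] using hgr) b' (by simpa [M'] using hbp)
      (by simp [M', hb', hgb])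

/-- The mapping property of a minimal model. -/
theorem exists_hom_of_disjoint (X Y : Model C f) (hmin : Models.IsMinimalModel R X.Z X.p C f) :
    ∃ b : Y.Z ⟶ X.Z, b ≫ X.p = Y.p ∧ Y.g ≫ b = X.g := by
  haveI := Y.isIntegral
  haveI := Y.isNoetherian
  haveI := X.isProper
  haveI := Y.isOpenImmersion
  let U := Y.g.opensRange
  have hφ : (Y.g.isoOpensRange.inv ≫ X.g) ≫ X.p = U.ι ≫ Y.p := by
    rw [Category.assoc, X.sq.w, ← Y.sq.w, ← Category.assoc]
    congr 1
    rw [Scheme.Hom.isoOpensRange_inv_comp]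
  obtain ⟨Y', r, b₀, hr, hb₀, hag⟩ := exists_extension Y.regular (Y.dim_le hdim) Y.p X.p U
    ⟨_, genericPoint C, rfl⟩ (Y.g.isoOpensRange.inv ≫ X.g) hφ
  obtain ⟨⟨Zm, pm, gm, sqm, hmm⟩, em, h1, h2⟩ := Model.exists_model_of_seq hr Y rfl
  change Zm = Y' at em
  subst em
  simp only [eqToHom_refl, Category.id_comp, Category.comp_id] at h1 h2
  refine Model.descend hdim hd hmin hr Y rfl ⟨_, pm, gm, sqm, hmm⟩ rfl (by simpa using h1)
    (by simpa using h2) b₀ (by rw [hb₀]; exact h1) ?_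
  have hr' : Set.range gm ⊆ Set.range (r ⁻¹ᵁ U).ι := by
    rw [Scheme.Opens.range_ι]
    rintro _ ⟨a, rfl⟩
    exact ⟨a, by rw [← h2, Scheme.Hom.comp_apply]⟩
  show gm ≫ b₀ = X.g
  rw [← IsOpenImmersion.lift_fac (r ⁻¹ᵁ U).ι gm hr', Category.assoc, hag, ← Category.assoc]
  suffices IsOpenImmersion.lift (r ⁻¹ᵁ U).ι gm hr' ≫ (r ∣_ U) = Y.g.isoOpensRange.hom by
    rw [this, Iso.hom_inv_id_assoc]
  rw [← cancel_mono U.ι, Category.assoc, morphismRestrict_ι, IsOpenImmersion.lift_fac_assoc, h2,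
    Scheme.Hom.isoOpensRange_hom_ι]

end Disjoint

variable (hC : Curve.IsSmoothProperCurve (FractionRing R) C f) (hH0 : IsIso f.appTop)
  (hg : 0 < Models.curveGenus (FractionRing R) C f)
include hC hH0 hg

/-- The mapping property of a minimal model in positive genus. -/
theorem exists_hom (X Y : Model C f) (hmin : Models.IsMinimalModel R X.Z X.p C f) :
    ∃ b : Y.Z ⟶ X.Z, b ≫ X.p = Y.p ∧ Y.g ≫ b = X.g :=
  exists_hom_of_disjoint hdim (Model.disjoint_exc hdim hC hH0 hg) X Y hmin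

/-- Morphisms of models to a minimal model exist uniquely and are sequences of contractions. -/
theorem mapping_property (X Y : Model C f) (hmin : Models.IsMinimalModel R X.Z X.p C f) :
    (∃! b : Y.Z ⟶ X.Z, b ≫ X.p = Y.p ∧ Y.g ≫ b = X.g) ∧
      ∀ b : Y.Z ⟶ X.Z, b ≫ X.p = Y.p → Y.g ≫ b = X.g → Models.IsContractionSeq b := by
  obtain ⟨b, hb, hgb⟩ := exists_hom hdim hC hH0 hg X Y hmin
  refine ⟨⟨b, ⟨hb, hgb⟩, fun b' h => Model.hom_ext Y X h.1 hb (h.2.trans hgb.symm)⟩, fun b' hb' hgb' => ?_⟩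
  haveI := Y.isIntegral
  haveI := X.isIntegral
  haveI := Y.isNoetherian
  haveI := X.isNoetherian
  obtain ⟨hP, hbir⟩ := Y.proper_birational X b' hb' hgb'
  haveI := hP
  simpa using SurfSeq.seq_of_birational (hX := Y.regular) (hdX := Y.dim_le hdim) b' hbir X.regular
    (X.dim_le hdim) X.Z (𝟙 _) (Models.IsContractionSeq.iso (Iso.refl X.Z))

end Groth.Agent.MinModel
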