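import Mathlib
import Groth.Agent.MinModel.Exc
import Groth.Agent.MinModel.Target
import Groth.Agent.MinModel.VertFactor
import Groth.Agent.H26.ExcCrit
import Groth.Agent.H26.VertClass
import Groth.Agent.Lib.DegBirat
import Groth.Agent.H23.RedSub
import Groth.Agent.Contraction7.Main

/-!
# Contraction of an exceptional component of the closed fibre
-/

set_option autoImplicit false
set_option linter.style.haveILetI false
set_option linter.unusedSectionVars false
set_option backward.isDefEq.respectTransparency false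
set_option backward.isDefEq.respectTransparency.types false
set_option maxHeartbeats 800000

universe u

open CategoryTheory CategoryTheory.Limits AlgebraicGeometry TopologicalSpace IsLocalRing
open Groth.Agent.H23.StalkIdeal
open Groth.Agent.H23
open scoped Groth.Agent.H23.PicMul
open Groth.Agent.PointBlow (ker_stalkMap_closed mem_support_iff)

noncomputable section

namespace Groth.Agent.MinModel.Contract

open H26

variable {R : Type u} [CommRing R] [IsDomain R] [IsDiscreteValuationRing R]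

section Birational

variable {X X' : Scheme.{u}} {p : X ⟶ Spec (CommRingCat.of R)} {p' : X' ⟶ Spec (CommRingCat.of R)}
  [IsProper p] [IsProper p'] {b : X ⟶ X'} (hcomm : b ≫ p' = p)

/-- The degree on a curve is unchanged by a birational morphism onto its image. -/
theorem inter_pullback (hcomm : b ≫ p' = p) {y : X'} (hy : IsClosed ({y} : Set X'))
    (hoff : IsIso (b ∣_ (⟨{y}ᶜ, hy.isOpen_compl⟩ : X'.Opens)))
    (Γ₁ : ArSurf.VertComp R (Over.mk p)) (Γ₂ : ArSurf.VertComp R (Over.mk p'))
    (hr : Set.range Γ₂.ι.base = b.base '' Set.range (Γ₁.ι.base : Γ₁.curve.left → X))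
    (hξ : b (Models.genPtOf R (Over.mk p) Γ₁) ≠ y) {L : X'.Modules} (hL : PicF.IsInvertible L) :
    ArSurf.inter R (Over.mk p) ((Scheme.Modules.pullback b).obj L) Γ₁ = ArSurf.inter R (Over.mk p') L Γ₂ := by
  haveI := hoff
  haveI : IsProper (Over.mk p).hom := ‹IsProper p›
  haveI : IsProper (Over.mk p').hom := ‹IsProper p'›
  let k := ResidueField R
  let V : X'.Opens := ⟨{y}ᶜ, hy.isOpen_compl⟩
  let i₁ : Γ₁.curve.left ⟶ X := Γ₁.ι
  let i₂ : Γ₂.curve.left ⟶ X' := Γ₂.ι
  haveI : IsClosedImmersion i₁ := Γ₁.isClosedImmersion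
  haveI : IsClosedImmersion i₂ := Γ₂.isClosedImmersion
  obtain ⟨φ, hφ⟩ := H23.RedSub.exists_lift_closed (i₁ ≫ b) i₂ (by
    rintro _ ⟨c, rfl⟩
    exact hr.ge ⟨_, ⟨c, rfl⟩, rfl⟩)
  have hsurj : Surjective φ := ⟨fun c => by
    obtain ⟨-, ⟨a, rfl⟩, ha⟩ := hr.le ⟨c, rfl⟩
    refine ⟨a, i₂.isClosedEmbedding.injective ?_⟩
    rw [← Scheme.Hom.comp_apply, hφ]
    exact ha⟩
  haveI := hsurj
  let U : Γ₂.curve.left.Opens := i₂ ⁻¹ᵁ V
  haveI : IsClosedImmersion (φ ∣_ U) := by
    haveI : IsClosedImmersion (i₁ ∣_ (b ⁻¹ᵁ V)) := IsZariskiLocalAtTarget.restrict (P := @IsClosedImmersion) ‹IsClosedImmersion i₁› _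
    haveI : IsClosedImmersion ((φ ≫ i₂) ∣_ V) := by
      rw [hφ, morphismRestrict_comp]; infer_instance
    have h : IsClosedImmersion ((φ ≫ i₂) ∣_ V) := inferInstance
    rw [morphismRestrict_comp] at h
    exact IsClosedImmersion.of_comp (φ ∣_ U) (i₂ ∣_ V)
  haveI : Surjective (φ ∣_ U) := IsZariskiLocalAtTarget.restrict hsurj _
  haveI : IsIso (φ ∣_ U) := isIso_of_isClosedImmersion_of_surjective _
  have hgenU : genericPoint Γ₁.curve.left ∈ φ ⁻¹ᵁ U := by
    show i₂ (φ (genericPoint Γ₁.curve.left)) ∈ V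
    rw [← Scheme.Hom.comp_apply, hφ]
    exact hξ
  letI : Γ₁.curve.left.Over (Spec (CommRingCat.of k)) := ⟨Γ₁.curve.hom⟩
  letI : Γ₂.curve.left.Over (Spec (CommRingCat.of k)) := ⟨Γ₂.curve.hom⟩
  haveI : IsProper (Γ₁.curve.left ↘ Spec (CommRingCat.of k)) := ArInter.isProper_curve Γ₁
  haveI : IsProper (Γ₂.curve.left ↘ Spec (CommRingCat.of k)) := ArInter.isProper_curve Γ₂
  have hf : φ ≫ (Γ₂.curve.left ↘ Spec (CommRingCat.of k)) = Γ₁.curve.left ↘ Spec (CommRingCat.of k) := by
    haveI : IsClosedImmersion (Spec.map (CommRingCat.ofHom (IsLocalRing.residue R))) :=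
      IsClosedImmersion.spec_of_surjective _ IsLocalRing.residue_surjective
    rw [← cancel_mono (Spec.map (CommRingCat.ofHom (IsLocalRing.residue R))), Category.assoc]
    show φ ≫ Γ₂.curve.hom ≫ _ = Γ₁.curve.hom ≫ _
    rw [← Γ₂.w, ← Γ₁.w]
    show φ ≫ i₂ ≫ p' = i₁ ≫ p
    rw [reassoc_of% hφ, hcomm]
  have hLi : PicF.IsInvertible ((Scheme.Modules.pullback i₂).obj L) := PicClLib.isInvertible_pullback i₂ hL
  have hE := InvEnd.isFinLocFreeOfRank_one hLi
  have hd := DegBirat.deg_pullback k Γ₂.dim_eq.le φ hf U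
    (U.isOpen.dense ⟨_, hgenU⟩) ((φ ⁻¹ᵁ U).isOpen.dense ⟨_, hgenU⟩) (n := 1) hE
  show ArSurf.curveDeg k Γ₁.curve.left ((Scheme.Modules.pullback Γ₁.ι).obj ((Scheme.Modules.pullback b).obj L)) =
    ArSurf.curveDeg k Γ₂.curve.left ((Scheme.Modules.pullback i₂).obj L)
  rw [ArInter.curveDeg_eq Γ₁ (PicClLib.isInvertible_pullback _ (PicClLib.isInvertible_pullback b hL)),
    ArInter.curveDeg_eq Γ₂ hLi, ← hd]
  exact CurveRR.deg_congr k ((Scheme.Modules.pullbackComp i₁ b).app L ≪≫
    (Scheme.Modules.pullbackCongr hφ.symm).app L ≪≫ ((Scheme.Modules.pullbackComp φ i₂).app L).symm) 1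

/-- A module pulled back from the target has degree zero on a contracted curve. -/
theorem inter_pullback_exc (E : ArSurf.VertComp R (Over.mk p)) {y : X'}
    (hE : ∀ e, b ((E.ι : E.curve.left ⟶ X) e) = y) {L : X'.Modules} (hL : PicF.IsInvertible L) :
    ArSurf.inter R (Over.mk p) ((Scheme.Modules.pullback b).obj L) E = 0 := by
  let i : E.curve.left ⟶ X := E.ι
  obtain ⟨W, hyW, e, he⟩ := InvX.exists_frame hL y
  have htop : (⊤ : E.curve.left.Opens) ≤ (i ≫ b) ⁻¹ᵁ W := fun a _ => by
    show (i ≫ b) a ∈ W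
    rw [Scheme.Hom.comp_apply, show b (i a) = y from hE a]
    exact hyW
  obtain ⟨t⟩ := VertDiv.nonempty_iso_of_frame_top ((InvX.isFrame_pullElt (i ≫ b) he).res htop)
  let t' := (Scheme.Modules.pullbackComp i b).app L ≪≫ t
  show ArSurf.curveDeg _ _ ((Scheme.Modules.pullback i).obj ((Scheme.Modules.pullback b).obj L)) = 0
  show FGA.eulerCharLE _ _ _ 1 - FGA.eulerCharLE _ _ _ 1 = 0
  have hh : ∀ m, Module.finrank (ResidueField R)
      (Coh.HH E.curve.left ((Scheme.Modules.pullback i).obj ((Scheme.Modules.pullback b).obj L)) m) =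
      Module.finrank (ResidueField R) (Coh.HH E.curve.left (Coh.structureModule E.curve.left) m) := fun m =>
    (NormalLib.hhIso (A := ResidueField R) t' m).finrank_eq
  simp only [FGA.eulerCharLE, hh, sub_self]

end Birational

section Main

variable {X X' : Scheme.{u}} [IsIntegral X] {p : X ⟶ Spec (CommRingCat.of R)} [IsProper p] [Flat p]
  {p' : X' ⟶ Spec (CommRingCat.of R)}
  (hreg : ∀ x : X, IsRegularLocalRing (X.presheaf.stalk x))
  {n : ℕ} {Γ : Fin (n + 1) → ArSurf.VertComp R (Over.mk p)} (hΓ : Models.IsComponentList R (Over.mk p) Γ)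
  (hexc : Models.IsExcCurve (Γ (Fin.last n)).ι)
  {b : X ⟶ X'} (hb : Models.IsContractionOf (Γ (Fin.last n)).ι b) (hcomm : b ≫ p' = p)

/-- The data of the contraction. -/
structure Data (E : Set X) (b : X ⟶ X') where
  y : X'
  hy : IsClosed ({y} : Set X')
  fibre : b ⁻¹' {y} = E
  surj : Function.Surjective b
  stalk : ∀ z, b z ≠ y → IsIso (b.stalkMap z)
  inj : ∀ z z', b z ≠ y → b z = b z' → z = z'
  off : IsIso (b ∣_ (⟨{y}ᶜ, hy.isOpen_compl⟩ : X'.Opens))

include hreg hexc hb in
theorem exists_data : IsIntegral X' ∧ (∀ z : X', IsRegularLocalRing (X'.presheaf.stalk z)) ∧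
    IsNoetherian X' ∧ IsProper b ∧
    Nonempty (Data (Set.range ((Γ (Fin.last n)).ι.base : (Γ (Fin.last n)).curve.left → X)) b) := by
  obtain ⟨hN, hP, y, hy, hrange, hyreg, hdim, hB⟩ := hb
  haveI := hN
  haveI := hP
  haveI := hyreg
  let E := Γ (Fin.last n)
  let ι : E.curve.left ⟶ X := E.ι
  haveI : IsClosedImmersion ι := E.isClosedImmersion
  have hmem : ∀ a, b (ι a) = y := fun a => by
    have h : (ι ≫ b) a ∈ Set.range ((ι ≫ b).base : E.curve.left → X') := ⟨a, rfl⟩
    rw [show Set.range ((ι ≫ b).base : E.curve.left → X') = {y} from hrange] at h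
    exact h
  obtain ⟨k, _, e, -⟩ := hexc.2
  obtain ⟨q₀, q₁, hq, hsp⟩ := Contraction7.exists_specializes_projLine k
  have hfib : b ⁻¹' {y} = Set.range ι := by
    refine le_antisymm (Contraction7.fibre_subset b hy hB hdim ι.isClosedEmbedding.isClosed_range
      (x₀ := ι (e.hom q₀)) (x₁ := ι (e.hom q₁))
      (fun h => hq (e.hom.homeomorph.injective (ι.isClosedEmbedding.injective h)))
      ((hsp.map e.hom.continuous).map ι.continuous) ⟨_, rfl⟩ (hmem _) (hmem _)) ?_
    rintro _ ⟨a, rfl⟩
    exact hmem a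
  have hoff := PointBlow.isIso_off hy hB
  have hsurj : Function.Surjective b := fun w => by
    by_cases hw : w = y
    · exact hw ▸ ⟨_, hmem (e.hom q₀)⟩
    haveI := hoff
    obtain ⟨v, hv⟩ := (b ∣_ (⟨({y} : Set X')ᶜ, hy.isOpen_compl⟩ : X'.Opens)).surjective ⟨w, hw⟩
    refine ⟨v.1, ?_⟩
    have := congrArg Subtype.val hv
    rwa [morphismRestrict_base_coe] at this
  have hst : ∀ z, b z ≠ y → IsIso (b.stalkMap z) := fun z hz => PointBlow.isIso_stalkMap_off hy hB hz
  have hreg' : ∀ w : X', IsRegularLocalRing (X'.presheaf.stalk w) := fun w => by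
    by_cases hw : w = y
    · exact hw ▸ hyreg
    obtain ⟨z, rfl⟩ := hsurj w
    haveI := hst z hw
    haveI := hreg z
    exact IsRegularLocalRing.of_ringEquiv (asIso (b.stalkMap z)).symm.commRingCatIsoToRingEquiv
  haveI : IrreducibleSpace X' := by
    have h : IsIrreducible (Set.univ : Set X') := by
      rw [← hsurj.range_eq, ← Set.image_univ]
      exact (IrreducibleSpace.isIrreducible_univ X).image _ b.continuous.continuousOn
    exact (irreducibleSpace_def X').2 h
  haveI : AlgebraicGeometry.IsReduced X' := by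
    haveI : ∀ w : X', _root_.IsReduced (X'.presheaf.stalk w) := fun w => by
      haveI := hreg' w
      haveI : IsDomain (X'.presheaf.stalk w) := RegLoc6.isDomain_of_isRegularLocalRing _
      infer_instance
    exact isReduced_of_isReduced_stalk X'
  exact ⟨isIntegral_of_irreducibleSpace_of_isReduced X', hreg', hN, hP,
    ⟨⟨y, hy, hfib, hsurj, hst, fun z z' hz he => PointBlow.injective_off hy hB hz he, hoff⟩⟩⟩

include hreg hexc hb hcomm in
theorem isProper_target : IsProper p' := by
  obtain ⟨hint, -, hN, hP, ⟨D⟩⟩ := exists_data hreg hexc hb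
  obtain ⟨-, -, y, hy, -, -, -, hB⟩ := hb
  haveI := hint
  haveI := hN
  haveI := hP
  haveI : Surjective b := ⟨D.surj⟩
  haveI : IsProper (b ≫ p') := by rw [hcomm]; infer_instance
  exact isProper_of_blowUp b hB p'

variable (D : Data (Set.range ((Γ (Fin.last n)).ι.base : (Γ (Fin.last n)).curve.left → X)) b)

include hΓ in
theorem mem_special (i : Fin (n + 1)) {z : X}
    (hz : z ∈ Set.range ((Γ i).ι.base : (Γ i).curve.left → X)) : p z = closedPoint R :=
  (show Set.range ((Γ i).ι.base : (Γ i).curve.left → X) ∈ Models.fibreComponents R (Over.mk p) from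
    hΓ.2 ▸ ⟨i, rfl⟩).1.2 hz

include hreg hΓ in
/-- The closed fibre is covered by the components. -/
theorem mem_component {z : X} (hz : z ∈ Models.specialFibreSet R (Over.mk p)) :
    ∃ j, z ∈ Set.range ((Γ j).ι.base : (Γ j).curve.left → X) := by
  haveI : IsProper (Over.mk p).hom := ‹IsProper p›
  haveI : Flat (Over.mk p).hom := ‹Flat p›
  by_contra hall
  simp only [not_exists] at hall
  obtain ⟨ϖ, hirr⟩ := IsDiscreteValuationRing.exists_irreducible R
  have hϖ := hirr.maximalIdeal_eq
  obtain ⟨U, hU, hzU, -⟩ := exists_isAffineOpen_mem_and_subset (x := z) (U := (⊤ : X.Opens)) trivial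
  let F : X.IdealSheafData →* Ideal (X.presheaf.stalk z) :=
    { toFun := fun I => sI I z
      map_one' := by
        rw [Ideal.one_eq_top]
        exact PointBlow.sI_eq_top fun h => by
          rw [show ((1 : X.IdealSheafData).support : Set X) = ∅ from
            congrArg (fun C : Closeds X => (C : Set X)) Scheme.IdealSheafData.support_top] at h
          exact h
      map_mul' := fun I J => PointBlow.sI_mul I J z }
  have h1 : sI (Models.specialFibreIdeal R (Over.mk p)) z = ⊤ := by
    rw [(FibreIdeal.result (Over.mk p) Γ hΓ hreg).2, ← Ideal.one_eq_top]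
    show F _ = 1
    rw [map_prod]
    refine Finset.prod_eq_one fun j _ => ?_
    rw [map_pow, show F (Γ j).ι.ker = 1 from (PointBlow.sI_eq_top fun h => hall j ?_).trans Ideal.one_eq_top.symm,
      one_pow]
    rw [Scheme.Hom.support_ker] at h
    exact (Γ j).ι.isClosedEmbedding.isClosed_range.closure_eq ▸ h
  letI := TopCat.Presheaf.algebra_section_stalk X.presheaf (⟨z, hzU⟩ : U)
  haveI := hU.isLocalization_stalk ⟨z, hzU⟩
  rw [sI_eq _ (⟨U, hU⟩ : X.affineOpens) hzU, CDivEq.stk,
    FibreIdeal.specialFibreIdeal_ideal (Over.mk p) hϖ (⟨U, hU⟩ : X.affineOpens),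
    Ideal.map_span, Set.image_singleton, Ideal.span_singleton_eq_top] at h1
  exact ((IsLocalization.AtPrime.isUnit_to_map_iff (X.presheaf.stalk z) _ _).1 h1)
    ((FibreIdeal.mem_fibre_iff (Over.mk p) hϖ hU z hzU).1 hz)

include hΓ D in
theorem genPt_ne (i : Fin n) : b (Models.genPtOf R (Over.mk p) (Γ i.castSucc)) ≠ D.y := by
  intro h
  have h1 : Models.genPtOf R (Over.mk p) (Γ i.castSucc) ∈
      Set.range ((Γ (Fin.last n)).ι.base : (Γ (Fin.last n)).curve.left → X) := D.fibre ▸ h
  have hmax : ∀ j, Set.range (Γ j).ι.base ∈ Models.fibreComponents R (Over.mk p) := fun j => hΓ.2 ▸ ⟨j, rfl⟩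
  have hle : Set.range (Γ i.castSucc).ι.base ⊆ Set.range (Γ (Fin.last n)).ι.base := by
    rw [FibreIdeal.range_eq_closure _ Γ hΓ i.castSucc]
    exact closure_minimal (Set.singleton_subset_iff.2 h1)
      (Γ (Fin.last n)).ι.isClosedEmbedding.isClosed_range
  exact (Fin.castSucc_lt_last i).ne (hΓ.1 (le_antisymm hle ((hmax _).2 (hmax _).1 hle)))

include hΓ D in
theorem eq_of_genPt_mem {i j : Fin n}
    (h : b (Models.genPtOf R (Over.mk p) (Γ i.castSucc)) ∈
      b.base '' Set.range ((Γ j.castSucc).ι.base : (Γ j.castSucc).curve.left → X)) : i = j := by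
  obtain ⟨z, hz, he⟩ := h
  obtain rfl := D.inj _ z (genPt_ne hΓ D i) he.symm
  have hmax : ∀ j, Set.range (Γ j).ι.base ∈ Models.fibreComponents R (Over.mk p) := fun j => hΓ.2 ▸ ⟨j, rfl⟩
  have hle : Set.range (Γ i.castSucc).ι.base ⊆ Set.range (Γ j.castSucc).ι.base := by
    rw [FibreIdeal.range_eq_closure _ Γ hΓ i.castSucc]
    exact closure_minimal (Set.singleton_subset_iff.2 hz) (Γ j.castSucc).ι.isClosedEmbedding.isClosed_range
  exact Fin.castSucc_injective _ (hΓ.1 (le_antisymm hle ((hmax _).2 (hmax _).1 hle)))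

variable (L : Fin (n + 1) → X.Modules) (hL : ∀ i, ClSub.IsInverseOf (L i) (ClSub.idealMod (Γ i).ι.ker))

include hreg hΓ hexc hL in
/-- The exceptional component has negative self-intersection and meets another component. -/
theorem exc_facts :
    ArSurf.inter R (Over.mk p) (L (Fin.last n)) (Γ (Fin.last n)) < 0 ∧
      ∃ j : Fin n, ¬ Disjoint (Set.range ((Γ (Fin.last n)).ι.base : (Γ (Fin.last n)).curve.left → X))
        (Set.range ((Γ j.castSucc).ι.base : (Γ j.castSucc).curve.left → X)) := by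
  haveI : IsProper (Over.mk p).hom := ‹IsProper p›
  haveI : Flat (Over.mk p).hom := ‹Flat p›
  have heff := (FibreIdeal.result (Over.mk p) Γ hΓ hreg).1
  have hneg : ArSurf.inter R (Over.mk p) (L (Fin.last n)) (Γ (Fin.last n)) < 0 := by
    rw [(ExcCrit.invariants_of_exc _ (heff _) (hL _) hexc).2]
    have := WDeg.wdeg_pos (Γ (Fin.last n))
    omega
  refine ⟨hneg, ?_⟩
  by_contra hall
  simp only [not_exists, not_not] at hall
  have hsum := ArInter.sum_mult_mul_inter (Over.mk p) Γ hreg hΓ L hL (Fin.last n)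
  rw [Fin.sum_univ_castSucc] at hsum
  rw [Finset.sum_eq_zero fun j _ => ?_, zero_add] at hsum
  · have hm := InterForm.mult_pos hΓ hreg (Fin.last n)
    rcases mul_eq_zero.1 hsum with h | h
    · omega
    · omega
  · refine mul_eq_zero_of_right _ ?_
    have hs : ((Γ j.castSucc).ι.ker.support : Set (Over.mk p).left) = Set.range (Γ j.castSucc).ι.base := by
      rw [Scheme.Hom.support_ker]
      exact (Γ j.castSucc).ι.isClosedEmbedding.isClosed_range.closure_eq
    refine (InterDiv.inter_nonneg_and_eq_zero_iff _ (heff _) ?_ (hL _)).2.2 ((show Disjoint _ ((Γ j.castSucc).ι.ker.support : Set (Over.mk p).left) by rw [hs]; exact hall j))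
    rw [hs]
    exact InterSymm.genPt_notMem _ _ fun e => (Fin.castSucc_lt_last j).ne (hΓ.1 e.symm)

include hreg hΓ hexc hb hcomm hL in
/-- The components of the new closed fibre. -/
theorem fibreComponents_eq :
    Models.fibreComponents R (Over.mk p') =
      Set.range (fun i : Fin n => b.base '' Set.range ((Γ i.castSucc).ι.base : (Γ i.castSucc).curve.left → X)) := by
  obtain ⟨-, -, -, hP, ⟨D⟩⟩ := exists_data hreg hexc hb
  haveI := hP
  let S : Fin n → Set X' := fun i => b.base '' Set.range ((Γ i.castSucc).ι.base : (Γ i.castSucc).curve.left → X)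
  have hcl : ∀ i, IsClosed (S i) := fun i =>
    b.isClosedMap _ (Γ i.castSucc).ι.isClosedEmbedding.isClosed_range
  have hsp : ∀ z : X, p z = p' (b z) := fun z => by rw [← Scheme.Hom.comp_apply, hcomm]
  have hsub : ∀ i, S i ⊆ Models.specialFibreSet R (Over.mk p') := by
    rintro i _ ⟨z, hz, rfl⟩
    exact (hsp z).symm.trans (mem_special hΓ i.castSucc hz)
  have hirr : ∀ i, IsIrreducible (S i) := fun i => by
    refine IsIrreducible.image ?_ _ b.continuous.continuousOn
    rw [← Set.image_univ]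
    exact (IrreducibleSpace.isIrreducible_univ _).image _ (Γ i.castSucc).ι.continuous.continuousOn
  obtain ⟨-, j₀, hj₀⟩ := exc_facts hreg hΓ hexc L hL
  have hyS : D.y ∈ S j₀ := by
    obtain ⟨z, hzE, hzj⟩ := Set.not_disjoint_iff.1 hj₀
    exact ⟨z, hzj, (show z ∈ b ⁻¹' {D.y} from D.fibre.symm ▸ hzE)⟩
  have hcover : ∀ S' : Set X', IsIrreducible S' → S' ⊆ Models.specialFibreSet R (Over.mk p') → ∃ i, S' ⊆ S i := by
    intro S' hS' hle
    classical
    obtain ⟨T, hT, hTs⟩ := isIrreducible_iff_sUnion_isClosed.1 hS' (Finset.univ.image S)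
      (fun T hT => by
        obtain ⟨i, -, rfl⟩ := Finset.mem_image.1 hT
        exact hcl i)
      (fun w hw => by
        obtain ⟨z, rfl⟩ := D.surj w
        suffices ∃ i, b z ∈ S i by
          obtain ⟨i, hi⟩ := this
          exact ⟨S i, by simp, hi⟩
        have hzs : z ∈ Models.specialFibreSet R (Over.mk p) := (hsp z).trans (hle hw)
        obtain ⟨j, hj⟩ := mem_component hreg hΓ hzs
        refine Fin.lastCases ?_ (fun i hi => ⟨i, z, hi, rfl⟩) j hj
        intro hz
        exact ⟨j₀, (show b z = D.y from (show z ∈ b ⁻¹' {D.y} from D.fibre.symm ▸ hz)) ▸ hyS⟩)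
    obtain ⟨i, -, rfl⟩ := Finset.mem_image.1 hT
    exact ⟨i, hTs⟩
  ext S'
  constructor
  · rintro ⟨⟨hS', hle⟩, hmax⟩
    obtain ⟨i, hi⟩ := hcover S' hS' hle
    exact ⟨i, le_antisymm (hmax ⟨hirr i, hsub i⟩ hi) hi⟩
  · rintro ⟨i, rfl⟩
    refine ⟨⟨hirr i, hsub i⟩, fun S' hS' hle => ?_⟩
    obtain ⟨j, hj⟩ := hcover S' hS'.1 hS'.2
    obtain rfl := eq_of_genPt_mem hΓ D (i := i) (j := j) (hj (hle ⟨_, ⟨_, rfl⟩, rfl⟩))
    exact hj

theorem length_quot_of_equiv {A B : Type u} [CommRing A] [CommRing B] (e : A ≃+* B) (I : Ideal A) :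
    Module.length A (A ⧸ I) = Module.length B (B ⧸ I.map e.toRingHom) := by
  letI : Algebra A B := e.toRingHom.toAlgebra
  rw [← Module.length_eq_of_surjective (R := B) (S := A) (M := B ⧸ I.map e.toRingHom)
    (fun b => ⟨e.symm b, e.apply_symm_apply b⟩)]
  exact (Ideal.quotientEquivAlg I (I.map e.toRingHom) (AlgEquiv.ofRingEquiv (f := e) fun _ => rfl) rfl).toLinearEquiv.length_eq

variable [IsProper p'] [Flat p'] (hreg' : ∀ z : X', IsRegularLocalRing (X'.presheaf.stalk z))
  {Γ' : Fin n → ArSurf.VertComp R (Over.mk p')} (hΓ' : Models.IsComponentList R (Over.mk p') Γ')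
  (hr : ∀ i, Set.range ((Γ' i).ι.base : (Γ' i).curve.left → X') =
    b.base '' Set.range ((Γ i.castSucc).ι.base : (Γ i.castSucc).curve.left → X))

include hΓ' hr in
theorem genPt_image [IsProper b] (i : Fin n) :
    b (Models.genPtOf R (Over.mk p) (Γ i.castSucc)) = Models.genPtOf R (Over.mk p') (Γ' i) := by
  have h : IsGenericPoint (Models.genPtOf R (Over.mk p) (Γ i.castSucc))
      (Set.range ((Γ i.castSucc).ι.base : (Γ i.castSucc).curve.left → X)) :=
    (InterSymm.range_eq_closure (Γ i.castSucc)).symm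
  have h2 := h.image b.continuous
  rw [(b.isClosedMap _ (Γ i.castSucc).ι.isClosedEmbedding.isClosed_range).closure_eq, ← hr i] at h2
  exact h2.eq (InterSymm.range_eq_closure (Γ' i)).symm

include hΓ hΓ' hcomm hr D in
theorem mult_eq [IsProper b] (i : Fin n) :
    Models.mult R (Over.mk p') (Γ' i) = Models.mult R (Over.mk p) (Γ i.castSucc) := by
  let ξ : X := Models.genPtOf R (Over.mk p) (Γ i.castSucc)
  let σ : ↥X' → ℕ∞ := fun w => Module.length (X'.presheaf.stalk w)
    (X'.presheaf.stalk w ⧸ Ideal.map (Models.stalkHom R (Over.mk p') w) (maximalIdeal R))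
  show (σ (Models.genPtOf R (Over.mk p') (Γ' i))).toNat = _
  rw [← genPt_image hΓ' hr i]
  haveI := D.stalk ξ (genPt_ne hΓ D i)
  let e := (asIso (b.stalkMap ξ)).commRingCatIsoToRingEquiv
  refine congrArg ENat.toNat ((length_quot_of_equiv e _).trans ?_)
  rw [Ideal.map_map]
  refine FibreIdeal.length_congr (congrArg (fun φ => Ideal.map φ (maximalIdeal R)) (RingHom.ext fun r => ?_))
  show (b.stalkMap ξ).hom ((X'.presheaf.germ ⊤ (b ξ) trivial).hom (Coh.toGlobal p' r)) =
    (X.presheaf.germ ⊤ ξ trivial).hom (Coh.toGlobal p r)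
  rw [Scheme.Hom.germ_stalkMap_apply]
  show (X.presheaf.germ (b ⁻¹ᵁ ⊤) ξ _).hom (b.appTop (p'.appTop ((Scheme.ΓSpecIso (CommRingCat.of R)).inv r))) =
    (X.presheaf.germ ⊤ ξ trivial).hom (p.appTop ((Scheme.ΓSpecIso (CommRingCat.of R)).inv r))
  rw [← hcomm, Scheme.Hom.comp_appTop]
  rfl

include hreg hreg' hΓ hΓ' hexc hcomm hr D hL in
theorem inter_eq [IsProper b] (L' : Fin n → X'.Modules)
    (hL' : ∀ j, ClSub.IsInverseOf (L' j) (ClSub.idealMod (Γ' j).ι.ker)) (i j : Fin n) :
    ArSurf.inter R (Over.mk p') (L' j) (Γ' i) * ArSurf.inter R (Over.mk p) (L (Fin.last n)) (Γ (Fin.last n)) =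
      ArSurf.inter R (Over.mk p) (L j.castSucc) (Γ i.castSucc) *
          ArSurf.inter R (Over.mk p) (L (Fin.last n)) (Γ (Fin.last n)) -
        ArSurf.inter R (Over.mk p) (L (Fin.last n)) (Γ i.castSucc) *
          ArSurf.inter R (Over.mk p) (L (Fin.last n)) (Γ j.castSucc) := by
  classical
  haveI : IsProper (Over.mk p).hom := ‹IsProper p›
  haveI : Flat (Over.mk p).hom := ‹Flat p›
  haveI : IsProper (Over.mk p').hom := ‹IsProper p'›
  haveI : Flat (Over.mk p').hom := ‹Flat p'›
  let ξ : Fin (n + 1) → (Over.mk p).left := fun k => Models.genPtOf R (Over.mk p) (Γ k)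
  have heff' := (FibreIdeal.result (Over.mk p') Γ' hΓ' hreg').1
  let I : X'.IdealSheafData := (Γ' j).ι.ker
  have hI : BlowUp.IsEffCartierIdeal I := heff' j
  have hsuppI : (I.support : Set X') = b.base '' Set.range ((Γ j.castSucc).ι.base : (Γ j.castSucc).curve.left → X) := by
    show ((Γ' j).ι.ker.support : Set (Over.mk p').left) = _
    rw [Scheme.Hom.support_ker]
    exact ((Γ' j).ι.isClosedEmbedding.isClosed_range.closure_eq).trans (hr j)
  have hsp : ∀ z, b z ∈ (I.support : Set X') → p z = closedPoint R := fun z hz => by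
    obtain ⟨z', hz', he⟩ := hsuppI ▸ hz
    rw [← hcomm, Scheme.Hom.comp_apply, ← he, ← Scheme.Hom.comp_apply, hcomm]
    exact mem_special hΓ _ hz'
  let J : (Over.mk p).left.IdealSheafData := I.comap b
  have hsuppJ : ∀ z, z ∈ (J.support : Set (Over.mk p).left) ↔ b z ∈ (I.support : Set X') := fun z => by
    rw [show (J.support : Set (Over.mk p).left) = b ⁻¹' (I.support : Set X') from ?_]
    · rfl
    · rw [Scheme.IdealSheafData.support_comap]; rfl
  have hJ : BlowUp.IsEffCartierIdeal J := S8862.result b I hI fun z hz h => by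
    have hη : z = genericPoint X := (hz _ (genericPoint_specializes z)).symm
    have h1 := hsp z h
    obtain ⟨η', -, hη'⟩ := Flat.generalizingMap (f := p) (genericPoint_specializes (p z))
    have h2 : p (genericPoint X) = genericPoint (Spec (CommRingCat.of R)) :=
      ((((genericPoint_specializes η').map p.continuous).trans (specializes_of_eq hη')).antisymm
        (genericPoint_specializes _)).eq
    exact H26.HorizDeg.generic_ne_closed (h2.symm.trans (hη ▸ h1))
  -- the pullback of the component is the component plus a multiple of the exceptional one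
  let e : Fin (n + 1) → ℕ := fun k => (Module.length ((Over.mk p).left.presheaf.stalk (ξ k))
    ((Over.mk p).left.presheaf.stalk (ξ k) ⧸ sI J (ξ k))).toNat
  have hJe : J = ∏ k, (Γ k).ι.ker ^ e k :=
    eq_prod_of_isEffCartier (Over.mk p) Γ hΓ hreg hJ fun z hz => hsp z ((hsuppJ z).1 hz)
  have hej : ∀ k : Fin n, e k.castSucc = if k = j then 1 else 0 := fun k => by
    split_ifs with hk
    · subst hk
      haveI := D.stalk (ξ k.castSucc) (genPt_ne hΓ D k)
      let ε := (asIso (b.stalkMap (ξ k.castSucc))).commRingCatIsoToRingEquiv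
      have hmax : sI I (b (ξ k.castSucc)) = maximalIdeal _ := by
        rw [genPt_image hΓ' hr k]
        show sI (Γ' k).ι.ker ((Γ' k).ι (genericPoint (Γ' k).curve.left)) = _
        rw [← ker_stalkMap_closed]
        have hF : IsField ((Γ' k).curve.left.presheaf.stalk (genericPoint (Γ' k).curve.left)) :=
          Field.toIsField ((Γ' k).curve.left.functionField)
        refine IsLocalRing.eq_maximalIdeal (Ideal.Quotient.maximal_of_isField _ ?_)
        exact (RingHom.quotientKerEquivOfSurjective ((Γ' k).ι.stalkMap_surjective _)).toMulEquiv.isField hF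
      have h : sI J (ξ k.castSucc) = maximalIdeal _ := by
        rw [show sI J (ξ k.castSucc) = (sI I (b (ξ k.castSucc))).map (b.stalkMap (ξ k.castSucc)).hom from
          sI_comap I b _, hmax]
        exact IsLocalRing.eq_maximalIdeal (Ideal.map_isMaximal_of_equiv ε)
      show ENat.toNat _ = 1
      rw [FibreIdeal.length_congr h]
      haveI : IsSimpleModule ((Over.mk p).left.presheaf.stalk (ξ k.castSucc))
          ((Over.mk p).left.presheaf.stalk (ξ k.castSucc) ⧸ maximalIdeal _) :=
        isSimpleModule_iff_isCoatom.2 (IsLocalRing.maximalIdeal.isMaximal _).out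
      rw [Module.length_eq_one]
      rfl
    · have h : ξ k.castSucc ∉ (J.support : Set (Over.mk p).left) := fun h => hk (eq_of_genPt_mem hΓ D
        (hsuppI ▸ (hsuppJ _).1 h))
      haveI : Subsingleton ((Over.mk p).left.presheaf.stalk (ξ k.castSucc) ⧸ sI J (ξ k.castSucc)) :=
        Ideal.Quotient.subsingleton_iff.2 (PointBlow.sI_eq_top h)
      show ENat.toNat _ = 0
      rw [Module.length_eq_zero]
      rfl
  let V : VertClass.Data (Over.mk p) Γ := ⟨L, hΓ, ‹Flat p›, ‹IsProper p›, hreg, hL⟩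
  have hLi : PicF.IsInvertible (L' j) := ArInter.isInvertible_of_inverse (IdealCl.isInvertible_idealMod hI) (hL' j)
  let M : (Over.mk p).left.Modules := (Scheme.Modules.pullback b).obj (L' j)
  have hM : PicF.IsInvertible M := PicClLib.isInvertible_pullback b hLi
  have hclM : PicF.cl M = (V.P fun k => (e k : ℤ)).val := by
    have h1 : PicF.cl M * PicF.cl (ClSub.idealMod J) = 1 := by
      rw [← PicMul.cl_eq_iff.2 (InterDiv.nonempty_pullback_idealMod b I hI hJ)]
      show PicMul.pullHom b (PicF.cl (L' j)) * PicMul.pullHom b (PicF.cl (ClSub.idealMod I)) = 1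
      rw [← map_mul, ← PicMul.cl_tensor, PicMul.cl_eq_iff.2 (hL' j)]
      exact (congrArg _ PicMul.one_def.symm).trans (map_one _)
    have h2 : ((V.P fun k => (e k : ℤ))⁻¹ : (PicF.Cl (Over.mk p).left)ˣ).val = PicF.cl (ClSub.idealMod J) := by
      rw [hJe, (IdealCl.eff_and_cl_prod Finset.univ (fun k => (Γ k).ι.ker) V.heff e).2]
      simp only [VertClass.Data.P, zpow_natCast, ← Finset.prod_inv_distrib, Units.coe_prod, ← inv_pow,
        Units.val_pow_eq_pow_val]
      rfl
    rw [← h2] at h1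
    calc PicF.cl M = PicF.cl M * ((V.P fun k => (e k : ℤ))⁻¹ : (PicF.Cl (Over.mk p).left)ˣ).val *
          (V.P fun k => (e k : ℤ)).val := by rw [mul_assoc, Units.inv_mul, mul_one]
      _ = _ := by rw [h1, one_mul]
  have key : ∀ k, ArSurf.inter R (Over.mk p) M (Γ k) = ArSurf.inter R (Over.mk p) (L j.castSucc) (Γ k) +
      e (Fin.last n) * ArSurf.inter R (Over.mk p) (L (Fin.last n)) (Γ k) := fun k => by
    rw [V.inter_eq hM hclM, Fin.sum_univ_castSucc]
    congr 1
    rw [Finset.sum_eq_single j (fun q _ hq => by rw [hej, if_neg hq, Nat.cast_zero, zero_mul])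
      (fun h => absurd (Finset.mem_univ j) h), hej, if_pos rfl, Nat.cast_one, one_mul]
  have h0 : ArSurf.inter R (Over.mk p) M (Γ (Fin.last n)) = 0 :=
    inter_pullback_exc (Γ (Fin.last n)) (y := D.y) (fun a => by
      exact (D.fibre.ge ⟨a, rfl⟩ : _ ∈ b ⁻¹' {D.y})) hLi
  have hi : ArSurf.inter R (Over.mk p) M (Γ i.castSucc) = ArSurf.inter R (Over.mk p') (L' j) (Γ' i) :=
    inter_pullback hcomm D.hy D.off (Γ i.castSucc) (Γ' i) (hr i) (genPt_ne hΓ D i) hLi
  rw [key] at h0 hi
  rw [← hi]
  have hs := InterForm.inter_symm hΓ L hL hreg (Fin.last n) j.castSucc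
  linear_combination ArSurf.inter R (Over.mk p) (L (Fin.last n)) (Γ i.castSucc) * h0 -
    ArSurf.inter R (Over.mk p) (L (Fin.last n)) (Γ i.castSucc) * hs

end Main

end Groth.Agent.MinModel.Contract
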